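import Mathlib.FieldTheory.Finite.GaloisField
import Mathlib.FieldTheory.Fixed
import Mathlib.RingTheory.IntegralDomain

/-!
# Finite semifields of characteristic 2 with the inverse property

A finite abelian group of exponent 2 with a biadditive product having a two-sided unit, no zero
divisors and the left and right inverse properties is a field: `mul_comm_and_assoc`.

The proof is elementary: the left multiplications are closed under `(a, b) ↦ aba` (Hua), so they
contain a maximal commutative subring, a field generated by some `t`; an eigenvector `y` of `t`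
for a nontrivial automorphism can be scaled, by surjectivity of the norm, to `z` with `z ^ n = 1`,
and then `1 + z + … + z ^ (n-1)` vanishes, against linear independence of eigenvectors.
-/

set_option autoImplicit false

namespace CfsgLib.InverseSemifield

open Finset

/-- Surjectivity of the norm of a finite field, for a cyclic group of automorphisms. -/
theorem exists_prod_eq {T : Type*} [Field T] [Finite T] (σ : T ≃+* T) {c : T} (hc : σ c = c) :
    ∃ k : T, ∏ i ∈ range (orderOf σ), (σ ^ i) k = c := by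
  classical
  let G : Subgroup (T ≃+* T) := Subgroup.zpowers σ
  have : Fintype T := Fintype.ofFinite T
  have hinjc : Function.Injective (fun (g : T ≃+* T) => (g : T → T)) := DFunLike.coe_injective
  have : Finite (T ≃+* T) := Finite.of_injective _ hinjc
  have : Fintype G := Fintype.ofFinite G
  let K := FixedPoints.subfield G T
  have hcK : c ∈ K := by
    rintro ⟨g, i, rfl⟩
    show (σ ^ i) c = c
    induction i using Int.induction_on with
    | zero => rfl
    | succ i ih => rw [zpow_add_one, RingAut.mul_apply, hc, ih]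
    | pred i ih =>
      rw [zpow_sub_one, RingAut.mul_apply]
      have : σ⁻¹ c = c := σ.injective (by rw [hc]; exact RingEquiv.apply_symm_apply σ c)
      rw [this, ih]
  obtain ⟨k, hk⟩ := FiniteField.norm_surjective K T ⟨c, hcK⟩
  refine ⟨k, ?_⟩
  have h := Algebra.norm_eq_prod_automorphisms K k
  rw [hk] at h
  show _ = c
  refine Eq.trans ?_ h.symm
  let e : Fin (orderOf σ) ≃ (T ≃ₐ[K] T) :=
    (finEquivZPowers (isOfFinOrder_of_finite σ)).trans (FixedPoints.toAlgAutMulEquiv G T).toEquiv
  rw [← Fintype.prod_equiv e (fun i => (σ ^ (i : ℕ)) k) (fun ψ => ψ k) fun i => rfl,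
    Fin.prod_univ_eq_prod_range (fun i => (σ ^ i) k)]

variable {A : Type*} [AddCommGroup A]

theorem End_mul_app (f g : AddMonoid.End A) (x : A) : (f * g) x = f (g x) := rfl

theorem End_one_app (x : A) : (1 : AddMonoid.End A) x = x := rfl

/-- A biadditive product with unit, no zero divisors and both inverse properties. -/
structure IsIPSemifield (m : A →+ A →+ A) (e : A) : Prop where
  add_self : ∀ x : A, x + x = 0
  one_mul : ∀ x : A, m e x = x
  mul_one : ∀ x : A, m x e = x
  eq_zero : ∀ x y : A, m x y = 0 → x = 0 ∨ y = 0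
  lip : ∀ a : A, a ≠ 0 → ∃ a' : A, ∀ x : A, m a' (m a x) = x
  rip : ∀ a : A, a ≠ 0 → ∃ a' : A, ∀ x : A, m (m x a) a' = x

namespace IsIPSemifield

variable {m : A →+ A →+ A} {e : A}

theorem flip (h : IsIPSemifield m e) : IsIPSemifield m.flip e :=
  ⟨h.add_self, h.mul_one, h.one_mul, fun x y hxy => (h.eq_zero y x hxy).symm, h.rip, h.lip⟩

/-- Left multiplication, in the endomorphism ring. -/
def L (m : A →+ A →+ A) (a : A) : AddMonoid.End A := m a

theorem L_apply (a x : A) : L m a x = m a x := rfl

theorem L_add (a b : A) : L m (a + b) = L m a + L m b := m.map_add a b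

theorem L_zero : L m (0 : A) = 0 := m.map_zero

theorem L_e (h : IsIPSemifield m e) : L m e = 1 := DFunLike.ext _ _ h.one_mul

theorem L_inj (h : IsIPSemifield m e) {a b : A} (hab : L m a = L m b) : a = b := by
  have := DFunLike.congr_fun hab e
  rwa [L_apply, L_apply, h.mul_one, h.mul_one] at this

theorem end_add_self (h : IsIPSemifield m e) (X : AddMonoid.End A) : X + X = 0 :=
  DFunLike.ext _ _ fun x => h.add_self (X x)

theorem eq_of_add_eq_zero (h : IsIPSemifield m e) {x y : A} (hxy : x + y = 0) : x = y := by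
  calc x = x + (y + y) := by rw [h.add_self, add_zero]
    _ = x + y + y := (add_assoc _ _ _).symm
    _ = y := by rw [hxy, zero_add]

theorem e_ne_zero (h : IsIPSemifield m e) {a : A} (ha : a ≠ 0) : e ≠ 0 := fun he => ha (by
  rw [← h.one_mul a, he, map_zero, AddMonoidHom.zero_apply])

theorem exists_inv (h : IsIPSemifield m e) {a : A} (ha : a ≠ 0) :
    ∃ a' : A, a' ≠ 0 ∧ L m a' * L m a = 1 := by
  obtain ⟨a', ha'⟩ := h.lip a ha
  refine ⟨a', fun h0 => h.e_ne_zero ha ?_, DFunLike.ext _ _ ha'⟩
  have := ha' e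
  rw [h0, map_zero, AddMonoidHom.zero_apply] at this
  exact this.symm

/-- A chosen inverse. -/
theorem mul_inv_eq (h : IsIPSemifield m e) {a a' : A} (ha' : a' ≠ 0) (hinv : L m a' * L m a = 1) :
    L m a * L m a' = 1 := by
  obtain ⟨a'', -, h''⟩ := h.exists_inv ha'
  have : L m a'' = L m a := by
    calc L m a'' = L m a'' * (L m a' * L m a) := by rw [hinv, _root_.mul_one]
      _ = L m a := by rw [← mul_assoc, h'', _root_.one_mul]
  rwa [← this]

/-- Hua's identity: the left multiplications are closed under `aba`. -/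
theorem L_mul_mul (h : IsIPSemifield m e) (a b : A) :
    L m a * L m b * L m a = L m (m a (m b a)) := by
  suffices key : ∃ c, L m a * L m b * L m a = L m c by
    obtain ⟨c, hc⟩ := key
    have h' : (L m a * L m b * L m a) e = L m c e := DFunLike.congr_fun hc e
    have e1 : (L m a * L m b * L m a) e = m a (m b (m a e)) := rfl
    rw [e1, L_apply, h.mul_one, h.mul_one] at h'
    rw [hc, h']
  by_cases ha : a = 0
  · exact ⟨0, by rw [ha, L_zero, zero_mul, zero_mul]⟩
  by_cases hb : b = 0
  · exact ⟨0, by rw [hb, L_zero, mul_zero, zero_mul]⟩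
  obtain ⟨μ, hμ0, hμ⟩ := h.exists_inv hb
  by_cases heq : a = μ
  · exact ⟨a, by rw [heq, hμ, _root_.one_mul]⟩
  obtain ⟨a', ha'0, ha'⟩ := h.exists_inv ha
  have hs : a + μ ≠ 0 := fun hz => heq (h.eq_of_add_eq_zero hz)
  obtain ⟨p, hp0, hp⟩ := h.exists_inv hs
  have hq : a' + p ≠ 0 := by
    intro hz
    have hap : a' = p := h.eq_of_add_eq_zero hz
    have e1 : L m (a + μ) = L m a := by
      calc L m (a + μ) = L m a * L m a' * L m (a + μ) := by
            rw [h.mul_inv_eq ha'0 ha', _root_.one_mul]
        _ = L m a := by rw [mul_assoc, hap, hp, _root_.mul_one]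
    exact hμ0 (add_left_cancel ((h.L_inj e1).trans (add_zero a).symm))
  obtain ⟨r, -, hr⟩ := h.exists_inv hq
  refine ⟨r + a, ?_⟩
  set X := L m a * L m b * L m a + L m a with hX
  have hX1 : L m (a' + p) * X = 1 := by
    have e1 : X = L m (a + μ) * (L m b * L m a) := by
      rw [hX, L_add, add_mul, ← mul_assoc (L m a), ← mul_assoc (L m μ), hμ, _root_.one_mul]
    have e2 : L m p * X = L m b * L m a := by rw [e1, ← mul_assoc, hp, _root_.one_mul]
    have e3 : L m a' * X = L m b * L m a + 1 := by
      rw [hX, mul_add, ← mul_assoc, ← mul_assoc, ha', _root_.one_mul]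
    rw [L_add, add_mul, e2, e3, add_right_comm, h.end_add_self, zero_add]
  have hrX : L m r = X := by
    calc L m r = L m r * (L m (a' + p) * X) := by rw [hX1, _root_.mul_one]
      _ = X := by rw [← mul_assoc, hr, _root_.one_mul]
  rw [L_add, hrX, hX, add_assoc, h.end_add_self, add_zero]

/-- The inverse of a product. -/
theorem inv_mul_rev (h : IsIPSemifield m e) {x x' y y' z' : A} (hx : x' ≠ 0)
    (hy : y' ≠ 0) (hx' : L m x' * L m x = 1) (hy' : L m y' * L m y = 1)
    (hz' : L m z' * L m (m x y) = 1) : z' = m y' x' := by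
  have right : ∀ {a a' : A}, a' ≠ 0 → L m a' * L m a = 1 → ∀ u : A, m (m u a) a' = u := by
    intro a a' ha'0 ha' u
    have ha : a ≠ 0 := fun h0 => by
      have := DFunLike.congr_fun ha' e
      rw [h0, L_zero, mul_zero] at this
      exact h.e_ne_zero ha'0 this.symm
    obtain ⟨b, hb⟩ := h.rip a ha
    have e1 : m a a' = e := by
      have := DFunLike.congr_fun (h.mul_inv_eq ha'0 ha') e
      rwa [End_mul_app, L_apply, L_apply, h.mul_one, End_one_app] at this
    have e2 : m a b = e := by have := hb e; rwa [h.one_mul] at this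
    have : b = a' := by
      rcases h.eq_zero a (b + a') (by rw [map_add, e1, e2, h.add_self]) with h0 | h0
      · exact absurd h0 ha
      · exact h.eq_of_add_eq_zero h0
    exact this ▸ hb u
  have h1 : m z' x = y' := by
    have := DFunLike.congr_fun hz' y'
    rw [End_mul_app, L_apply, L_apply, right hy hy'] at this
    exact this
  rw [← h1, right hx hx']

/-- Flexibility. -/
theorem flexible (h : IsIPSemifield m e) (a b : A) : m a (m b a) = m (m a b) a := by
  by_cases ha : a = 0
  · simp [ha]
  by_cases hb : b = 0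
  · simp [hb]
  obtain ⟨a', ha'0, ha'⟩ := h.exists_inv ha
  obtain ⟨b', hb'0, hb'⟩ := h.exists_inv hb
  have hA := h.mul_inv_eq ha'0 ha'
  have hB := h.mul_inv_eq hb'0 hb'
  -- work with the inverses
  set z := m a' (m b' a') with hz
  have hzinv : L m z * L m (m a (m b a)) = 1 := by
    rw [hz, ← h.L_mul_mul, ← h.L_mul_mul]
    calc L m a' * L m b' * L m a' * (L m a * L m b * L m a)
        = L m a' * L m b' * (L m a' * L m a) * L m b * L m a := by simp only [mul_assoc]
      _ = L m a' * (L m b' * L m b) * L m a := by rw [ha', _root_.mul_one]; simp only [mul_assoc]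
      _ = 1 := by rw [hb', _root_.mul_one, ha']
  have hz0 : z ≠ 0 := fun h0 => by
    have := DFunLike.congr_fun hzinv e
    rw [h0, L_zero, zero_mul] at this
    exact h.e_ne_zero ha this.symm
  have hab : m a' b' ≠ 0 := fun h0 => (h.eq_zero _ _ h0).elim ha'0 hb'0
  obtain ⟨w, hw0, hw⟩ := h.exists_inv hab
  -- `(a'(b'a'))` inverts `a(ba)`, and `(a' b') a'` inverts `a (b a)` as well
  have e1 : w = m b a := h.inv_mul_rev ha hb hA hB hw
  have hrev : L m (m a (m b a)) * L m z = 1 := by
    have hne : m a (m b a) ≠ 0 := fun h0 => (h.eq_zero _ _ h0).elim ha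
      fun h1 => (h.eq_zero _ _ h1).elim hb ha
    exact h.mul_inv_eq hz0 hzinv
  have hab2 : m (m a' b') a' ≠ 0 := fun h0 => (h.eq_zero _ _ h0).elim hab ha'0
  obtain ⟨v, hv0, hv⟩ := h.exists_inv hab2
  have e2 : v = m a w := h.inv_mul_rev hw0 ha hw hA hv
  have e3 : m (m a' b') a' = z := by
    refine h.L_inj ?_
    rw [e2, e1] at hv hv0
    calc L m (m (m a' b') a') = L m z * L m (m a (m b a)) * L m (m (m a' b') a') := by
          rw [hzinv, _root_.one_mul]
      _ = L m z := by rw [mul_assoc, hv, _root_.mul_one]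
  -- invert once more
  have hba : m a b ≠ 0 := fun h0 => (h.eq_zero _ _ h0).elim ha hb
  have hba2 : m (m a b) a ≠ 0 := fun h0 => (h.eq_zero _ _ h0).elim hba ha
  obtain ⟨w2, hw20, hw2⟩ := h.exists_inv hba
  have e4 : w2 = m b' a' := h.inv_mul_rev ha'0 hb'0 ha' hb' hw2
  obtain ⟨v2, hv20, hv2⟩ := h.exists_inv hba2
  have e5 : v2 = z := by rw [h.inv_mul_rev hw20 ha'0 hw2 ha' hv2, e4]
  refine h.L_inj ?_
  rw [e5] at hv2
  calc L m (m a (m b a)) = L m (m a (m b a)) * (L m z * L m (m (m a b) a)) := by
        rw [hv2, _root_.mul_one]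
    _ = L m (m (m a b) a) := by rw [← mul_assoc, hrev, _root_.one_mul]

theorem commute_L_R (h : IsIPSemifield m e) (a : A) : Commute (L m a) (L m.flip a) :=
  DFunLike.ext _ _ fun x => h.flexible a x

/-- Powers. -/
def pw (m : A →+ A →+ A) (e : A) (a : A) (n : ℕ) : A := (L m a ^ n) e

theorem pw_zero (a : A) : pw m e a 0 = e := by simp [pw]

theorem pw_succ (a : A) (n : ℕ) : pw m e a (n + 1) = m a (pw m e a n) := by
  rw [pw, pow_succ', End_mul_app, L_apply]; rfl

theorem L_pow (h : IsIPSemifield m e) (a : A) : ∀ n : ℕ, L m a ^ n = L m (pw m e a n) := by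
  suffices key : ∀ n : ℕ, ∃ c, L m a ^ n = L m c by
    intro n
    obtain ⟨c, hc⟩ := key n
    rw [hc, pw, hc, L_apply, h.mul_one]
  intro n
  induction n using Nat.strong_induction_on with
  | _ n ih =>
    match n with
    | 0 => exact ⟨e, by rw [pow_zero, h.L_e]⟩
    | 1 => exact ⟨a, pow_one _⟩
    | k + 2 =>
      obtain ⟨c, hc⟩ := ih k (by omega)
      exact ⟨_, by rw [pow_succ, pow_succ', hc]; exact h.L_mul_mul a c⟩

theorem pw_flip (h : IsIPSemifield m e) (a : A) : ∀ n, pw m.flip e a n = pw m e a n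
  | 0 => by rw [pw_zero, pw_zero]
  | n + 1 => by
    rw [pw_succ, pw_flip h a n]
    show m (pw m e a n) a = pw m e a (n + 1)
    have := DFunLike.congr_fun ((h.commute_L_R a).pow_left n).eq e
    rw [End_mul_app, End_mul_app] at this
    show L m.flip a ((L m a ^ n) e) = _
    rw [← this, L_apply, AddMonoidHom.flip_apply, h.one_mul]
    conv_rhs => rw [pw, pow_succ, End_mul_app, L_apply, h.mul_one]

theorem R_pow (h : IsIPSemifield m e) (a : A) (n : ℕ) :
    L m.flip a ^ n = L m.flip (pw m e a n) := by
  rw [h.flip.L_pow, h.pw_flip]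

/-- A subring made of left multiplications, commutative. -/
def IsMulSubring (m : A →+ A →+ A) (T : Subring (AddMonoid.End A)) : Prop :=
  (∀ X ∈ T, ∃ a, X = L m a) ∧ ∀ X ∈ T, ∀ Y ∈ T, X * Y = Y * X

section Finite

variable [Finite A]

theorem L_injective_apply (h : IsIPSemifield m e) {a : A} (ha : a ≠ 0) :
    Function.Injective (L m a) := (injective_iff_map_eq_zero _).2 fun x hx =>
  (h.eq_zero a x hx).resolve_left ha

/-- A commuting product of left multiplications is one. -/
theorem exists_mul_of_commute (h : IsIPSemifield m e) {a b : A}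
    (hab : L m a * L m b = L m b * L m a) :
    ∃ c, L m a * L m b = L m c := by
  by_cases ha : a = 0
  · exact ⟨0, by rw [ha, L_zero, zero_mul]⟩
  have hinje : Function.Injective (fun (X : AddMonoid.End A) => (X : A → A)) :=
    DFunLike.coe_injective
  have : Finite (AddMonoid.End A) := Finite.of_injective _ hinje
  obtain ⟨a', ha'0, ha'⟩ := h.exists_inv ha
  let u : (AddMonoid.End A)ˣ := ⟨L m a, L m a', h.mul_inv_eq ha'0 ha', ha'⟩
  have hn : 0 < orderOf u := orderOf_pos u
  have hodd : ¬ Even (orderOf u) := by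
    rintro ⟨k, hk⟩
    have h1 : u ^ k ≠ 1 := pow_ne_one_of_lt_orderOf (by omega) (by omega)
    have h2 : (L m a ^ k) * (L m a ^ k) = 1 := by
      rw [← pow_add, ← hk]
      exact congrArg Units.val (pow_orderOf_eq_one u)
    have h3 : (L m a ^ k + 1) * (L m a ^ k + 1) = 0 := by
      have e1 : (L m a ^ k + 1) * (L m a ^ k + 1) =
          (L m a ^ k * L m a ^ k + 1) + (L m a ^ k + L m a ^ k) := by
        rw [add_mul, mul_add, mul_add, _root_.one_mul, _root_.one_mul, _root_.mul_one]
        abel
      rw [e1, h2, h.end_add_self, h.end_add_self, add_zero]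
    rw [h.L_pow, ← h.L_e, ← L_add] at h3
    by_cases hz : pw m e a k + e = 0
    · refine h1 (Units.ext ?_)
      rw [Units.val_pow_eq_pow_val, Units.val_one]
      show L m a ^ k = 1
      rw [h.L_pow, h.eq_of_add_eq_zero hz, h.L_e]
    · refine h.e_ne_zero ha (h.L_injective_apply hz (h.L_injective_apply hz ?_))
      rw [map_zero, map_zero]
      exact DFunLike.congr_fun h3 e
  obtain ⟨k, hk⟩ := Nat.not_even_iff_odd.1 hodd
  set c := pw m e a (k + 1) with hc
  have hsq : L m c * L m c = L m a := by
    rw [hc, ← h.L_pow, ← pow_add, show k + 1 + (k + 1) = orderOf u + 1 by omega, pow_succ]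
    rw [show L m a ^ orderOf u = 1 from congrArg Units.val (pow_orderOf_eq_one u), _root_.one_mul]
  have hcb : L m c * L m b = L m b * L m c := by
    rw [hc, ← h.L_pow]; exact (Commute.pow_left hab _).eq
  refine ⟨m c (m b c), ?_⟩
  rw [← h.L_mul_mul, mul_assoc, ← hcb, ← mul_assoc, hsq]

/-- The ring of left multiplications commuting with everything that commutes with `s`. -/
def doubleCentralizer (h : IsIPSemifield m e) (s : Set (AddMonoid.End A))
    (hs : ∀ X ∈ s, ∀ Y ∈ s, X * Y = Y * X) : Subring (AddMonoid.End A) where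
  carrier := {X | (∃ a, X = L m a) ∧ X ∈ Subring.centralizer (Subring.centralizer s : Set _)}
  mul_mem' := by
    rintro X Y ⟨⟨a, rfl⟩, hX⟩ ⟨⟨b, rfl⟩, hY⟩
    refine ⟨h.exists_mul_of_commute ?_, mul_mem hX hY⟩
    have hYs : L m b ∈ Subring.centralizer s := Subring.mem_centralizer_iff.2 fun Z hZ =>
      (Subring.mem_centralizer_iff.1 hY Z (Subring.mem_centralizer_iff.2 fun W hW => hs W hW Z hZ))
    exact (Subring.mem_centralizer_iff.1 hX _ hYs).symm
  one_mem' := ⟨⟨e, h.L_e.symm⟩, one_mem _⟩
  add_mem' := by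
    rintro X Y ⟨⟨a, rfl⟩, hX⟩ ⟨⟨b, rfl⟩, hY⟩
    exact ⟨⟨a + b, (L_add a b).symm⟩, add_mem hX hY⟩
  zero_mem' := ⟨⟨0, L_zero.symm⟩, zero_mem _⟩
  neg_mem' := by
    rintro X ⟨⟨a, rfl⟩, hX⟩
    exact ⟨⟨-a, (m.map_neg a).symm⟩, neg_mem hX⟩

theorem isMulSubring_doubleCentralizer (h : IsIPSemifield m e) (s : Set (AddMonoid.End A))
    (hs : ∀ X ∈ s, ∀ Y ∈ s, X * Y = Y * X) : IsMulSubring m (h.doubleCentralizer s hs) := by
  refine ⟨fun X hX => hX.1, fun X hX Y hY => ?_⟩
  have hYs : Y ∈ Subring.centralizer s := Subring.mem_centralizer_iff.2 fun Z hZ =>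
    (Subring.mem_centralizer_iff.1 hY.2 Z (Subring.mem_centralizer_iff.2 fun W hW => hs W hW Z hZ))
  exact (Subring.mem_centralizer_iff.1 hX.2 Y hYs).symm

/-- A finite IP semifield of characteristic 2 is commutative and associative. -/
theorem mul_comm_and_assoc (h : IsIPSemifield m e) :
    (∀ a b : A, m a b = m b a) ∧ ∀ a b c : A, m (m a b) c = m a (m b c) := by
  classical
  rcases subsingleton_or_nontrivial A with hA | hA
  · exact ⟨fun a b => Subsingleton.elim _ _, fun a b c => Subsingleton.elim _ _⟩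
  obtain ⟨a₀, ha₀⟩ := exists_ne (0 : A)
  have he : e ≠ 0 := h.e_ne_zero ha₀
  have hinje : Function.Injective (fun (X : AddMonoid.End A) => (X : A → A)) :=
    DFunLike.coe_injective
  have : Finite (AddMonoid.End A) := Finite.of_injective _ hinje
  have : Finite (Subring (AddMonoid.End A)) := Finite.of_injective _ SetLike.coe_injective
  have hne : {T : Subring (AddMonoid.End A) | IsMulSubring m T}.Nonempty :=
    ⟨_, h.isMulSubring_doubleCentralizer ∅ fun X hX => hX.elim⟩
  obtain ⟨T, hT, hTmax⟩ := Set.exists_max_image {T : Subring (AddMonoid.End A) | IsMulSubring m T}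
    (fun T => Nat.card T) (Set.toFinite _) hne
  let : CommRing ↥T := { T.toRing with mul_comm := fun X Y => Subtype.ext (hT.2 X X.2 Y Y.2) }
  have : Nontrivial ↥T := ⟨⟨0, 1, fun h01 => he (by
    have := DFunLike.congr_fun (congrArg Subtype.val h01) e
    exact this.symm)⟩⟩
  have : NoZeroDivisors ↥T := ⟨fun {X Y} hXY => by
    obtain ⟨a, ha⟩ := hT.1 X X.2
    obtain ⟨b, hb⟩ := hT.1 Y Y.2
    have hab : m a b = 0 := by
      have := DFunLike.congr_fun (congrArg Subtype.val hXY) e
      rw [show ((X * Y : ↥T) : AddMonoid.End A) = L m a * L m b by rw [Subring.coe_mul, ha, hb],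
        End_mul_app, L_apply, L_apply, h.mul_one] at this
      exact this
    rcases h.eq_zero a b hab with h0 | h0
    · exact Or.inl (Subtype.ext (by rw [ha, h0, L_zero]; rfl))
    · exact Or.inr (Subtype.ext (by rw [hb, h0, L_zero]; rfl))⟩
  have : IsDomain ↥T := NoZeroDivisors.to_isDomain _
  let fT : Field ↥T := (Finite.isField_of_domain ↥T).toField
  -- the element of `A` belonging to a member of `T`
  let v : ↥T → A := fun X => (X : AddMonoid.End A) e
  have hv : ∀ X : ↥T, (X : AddMonoid.End A) = L m (v X) := fun X => by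
    obtain ⟨a, ha⟩ := hT.1 X X.2
    show _ = L m ((X : AddMonoid.End A) e)
    rw [ha, L_apply, h.mul_one]
  obtain ⟨g, hg⟩ := IsCyclic.exists_generator (α := (↥T)ˣ)
  set τ : ↥T := (g : ↥T) with hτ
  set t := v τ with ht
  have hgen : ∀ X : ↥T, X = 0 ∨ ∃ n : ℕ, X = τ ^ n := fun X => by
    rcases eq_or_ne X 0 with h0 | h0
    · exact Or.inl h0
    obtain ⟨n, hn⟩ := (isOfFinOrder_of_finite g).mem_powers_iff_mem_zpowers.2 (hg (Units.mk0 X h0))
    refine Or.inr ⟨n, ?_⟩
    have := congrArg (fun u : (↥T)ˣ => (u : ↥T)) hn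
    simpa [hτ] using this.symm
  have hvpow : ∀ n : ℕ, v (τ ^ n) = pw m e t n := fun n => by
    show ((τ ^ n : ↥T) : AddMonoid.End A) e = _
    rw [SubmonoidClass.coe_pow, hv τ, h.L_pow, L_apply, h.mul_one]
  let ρ : ↥T → AddMonoid.End A := fun X => L m.flip (v X)
  have hρmul : ∀ X Y, ρ (X * Y) = ρ X * ρ Y := by
    intro X Y
    have hz : ρ 0 = 0 := by
      show L m.flip (v 0) = 0
      rw [show v (0 : ↥T) = 0 from rfl]; exact L_zero
    rcases hgen X with rfl | ⟨i, rfl⟩
    · rw [zero_mul, hz, zero_mul]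
    rcases hgen Y with rfl | ⟨j, rfl⟩
    · rw [mul_zero, hz, mul_zero]
    rw [← pow_add]
    show L m.flip (v _) = L m.flip (v _) * L m.flip (v _)
    rw [hvpow, hvpow, hvpow, ← h.R_pow, ← h.R_pow, ← h.R_pow, pow_add]
  let ρh : ↥T →+* AddMonoid.End A :=
    { toFun := ρ
      map_one' := by
        show L m.flip (v 1) = 1
        rw [show v (1 : ↥T) = e from rfl]; exact h.flip.L_e
      map_mul' := hρmul
      map_zero' := by
        show L m.flip (v 0) = 0
        rw [show v (0 : ↥T) = 0 from rfl]; exact L_zero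
      map_add' := fun X Y => by
        show L m.flip (v (X + Y)) = L m.flip (v X) + L m.flip (v Y)
        rw [← L_add]; rfl }
  have hLt : ∀ n, ((τ ^ n : ↥T) : AddMonoid.End A) = L m t ^ n := fun n => by
    rw [SubmonoidClass.coe_pow, hv τ]
  -- left and right multiplications from `T` commute
  have hcommT : ∀ X Y : ↥T, (X : AddMonoid.End A) * ρ Y = ρ Y * (X : AddMonoid.End A) := by
    intro X Y
    rcases hgen X with rfl | ⟨i, rfl⟩
    · simp
    rcases hgen Y with rfl | ⟨j, rfl⟩
    · have : ρ 0 = 0 := map_zero ρh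
      rw [this, zero_mul, mul_zero]
    show _ * L m.flip (v _) = L m.flip (v _) * _
    rw [hLt, hvpow, ← h.R_pow]
    exact ((h.commute_L_R t).pow_pow i j).eq
  -- the centralizer of `t` is `T`
  have hcent : ∀ b : A, m t b = m b t → L m b ∈ T := by
    intro b hb
    have hc : L m t * L m b = L m b * L m t := by
      have h2 := h.L_mul_mul (t + b) e
      rw [h.L_e, _root_.mul_one, h.one_mul, L_add, add_mul, mul_add, mul_add] at h2
      have h3 : L m (m (t + b) (t + b)) = L m t * L m t + L m b * L m b := by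
        have hs : m (t + b) (t + b) = m t t + m b b := by
          simp only [map_add, AddMonoidHom.add_apply]
          rw [hb]
          calc _ = m t t + m b b + (m b t + m b t) := by abel
            _ = _ := by rw [h.add_self, add_zero]
        have h4 : ∀ a : A, L m a * L m a = L m (m a a) := fun a => by
          have := h.L_mul_mul a e
          rwa [h.L_e, _root_.mul_one, h.one_mul] at this
        rw [hs, L_add, h4, h4]
      rw [h3] at h2
      have h5 : L m t * L m b + L m b * L m t = 0 := by
        calc L m t * L m b + L m b * L m t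
            = (L m t * L m t + L m t * L m b + (L m b * L m t + L m b * L m b))
              - (L m t * L m t + L m b * L m b) := by abel
          _ = 0 := by rw [h2, sub_self]
      calc L m t * L m b = L m t * L m b + (L m b * L m t + L m b * L m t) := by
            rw [h.end_add_self, add_zero]
        _ = _ := by rw [← add_assoc, h5, zero_add]
    have hs : ∀ X ∈ ({L m t, L m b} : Set (AddMonoid.End A)), ∀ Y ∈ ({L m t, L m b} : Set _),
        X * Y = Y * X := by
      rintro X (rfl | rfl) Y (rfl | rfl) <;> first | rfl | exact hc | exact hc.symm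
    set T2 := h.doubleCentralizer _ hs with hT2
    have hmem : ∀ X ∈ ({L m t, L m b} : Set (AddMonoid.End A)),
        X ∈ Subring.centralizer (Subring.centralizer ({L m t, L m b} : Set _) : Set _) :=
      fun X hX => Subring.mem_centralizer_iff.2 fun Z hZ =>
        (Subring.mem_centralizer_iff.1 hZ X hX).symm
    have htT2 : L m t ∈ T2 := ⟨⟨t, rfl⟩, hmem _ (Set.mem_insert _ _)⟩
    have hle : T ≤ T2 := fun X hX => by
      rcases hgen ⟨X, hX⟩ with h0 | ⟨n, hn⟩
      · rw [show X = 0 from congrArg Subtype.val h0]; exact zero_mem _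
      · rw [show X = L m t ^ n from (congrArg Subtype.val hn).trans (hLt n)]
        exact pow_mem htT2 n
    have hEq : T = T2 := SetLike.coe_injective (Set.eq_of_subset_of_ncard_le hle (by
      rw [← Nat.card_coe_set_eq, ← Nat.card_coe_set_eq]
      exact hTmax T2 (h.isMulSubring_doubleCentralizer _ hs)) (Set.toFinite _))
    rw [hEq]
    exact ⟨⟨b, rfl⟩, hmem _ (Set.mem_insert_of_mem _ rfl)⟩
  -- if all left multiplications lie in `T` we are done
  suffices hall : ∀ b : A, L m b ∈ T by
    have hcm : ∀ a b : A, m a b = m b a := fun a b => by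
      have := DFunLike.congr_fun (hT.2 _ (hall a) _ (hall b)) e
      rwa [End_mul_app, End_mul_app, L_apply, L_apply, L_apply, L_apply,
        h.mul_one, h.mul_one] at this
    refine ⟨hcm, fun a b c => ?_⟩
    obtain ⟨d, hd⟩ := hT.1 _ (T.mul_mem (hall a) (hall b))
    have hd' : m a b = d := by
      have := DFunLike.congr_fun hd e
      rwa [End_mul_app, L_apply, L_apply, L_apply, h.mul_one, h.mul_one] at this
    have := DFunLike.congr_fun hd c
    rw [End_mul_app, L_apply, L_apply, L_apply, ← hd'] at this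
    exact this.symm
  by_contra hnot
  push Not at hnot
  obtain ⟨b₀, hb₀⟩ := hnot
  -- an eigenvector of `t`
  let X₀ : AddMonoid.End A := L m t
  have hcomm0 : ∀ c : ↥T, Commute (ρh c) X₀ := fun c => by
    show ρ c * L m t = L m t * ρ c
    rw [show L m t = ((τ : ↥T) : AddMonoid.End A) from (hv τ).symm]
    exact (hcommT τ c).symm
  obtain ⟨cc, hcc, y, hy0, hy⟩ : ∃ cc : ↥T, cc ≠ τ ∧ ∃ y : A, y ≠ 0 ∧ m t y = ρ cc y := by
    by_contra hno
    push Not at hno
    have hFT : Fintype ↥T := Fintype.ofFinite _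
    have hpoly : ∏ c : ↥T, (Polynomial.X - Polynomial.C c) =
        Polynomial.X ^ Fintype.card ↥T - Polynomial.X := by
      have hsplit := FiniteField.roots_X_pow_card_sub_X ↥T
      have hmon : (Polynomial.X ^ Fintype.card ↥T - Polynomial.X : Polynomial ↥T).Monic := by
        refine Polynomial.monic_X_pow_sub ?_
        rw [Polynomial.degree_X]
        exact_mod_cast Fintype.one_lt_card
      have hdeg : Multiset.card (Polynomial.X ^ Fintype.card ↥T - Polynomial.X : Polynomial ↥T).roots
          = (Polynomial.X ^ Fintype.card ↥T - Polynomial.X : Polynomial ↥T).natDegree := by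
        rw [hsplit, FiniteField.X_pow_card_sub_X_natDegree_eq ↥T Fintype.one_lt_card]
        rfl
      have := Polynomial.prod_multiset_X_sub_C_of_monic_of_roots_card_eq hmon hdeg
      rw [hsplit] at this
      exact this
    let φ : Polynomial ↥T →+* AddMonoid.End A := Polynomial.eval₂RingHom' ρh X₀ hcomm0
    have hφX : φ Polynomial.X = X₀ := Polynomial.eval₂_X _ _
    have hφC : ∀ c, φ (Polynomial.C c) = ρ c := fun c => Polynomial.eval₂_C _ _
    have hzero : φ (Polynomial.X ^ Fintype.card ↥T - Polynomial.X) = 0 := by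
      rw [map_sub, map_pow, hφX, sub_eq_zero]
      show L m t ^ Fintype.card ↥T = L m t
      rw [← hLt, FiniteField.pow_card, hv τ]
    rw [← hpoly, ← Finset.mul_prod_erase _ _ (Finset.mem_univ τ), mul_comm, map_mul] at hzero
    have hinj : ∀ s : Finset ↥T, τ ∉ s →
        Function.Injective (φ (∏ c ∈ s, (Polynomial.X - Polynomial.C c))) := by
      intro s
      induction s using Finset.induction with
      | empty => intro _; rw [Finset.prod_empty, map_one]; exact fun a b hab => hab
      | insert c s hcs ih =>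
        intro hτs
        rw [Finset.prod_insert hcs, map_mul, AddMonoid.End.coe_mul]
        refine Function.Injective.comp ((injective_iff_map_eq_zero _).2 fun x hx => ?_)
          (ih fun h' => hτs (Finset.mem_insert_of_mem h'))
        by_contra hx0
        refine hno c (fun h' => hτs (h' ▸ Finset.mem_insert_self _ _)) x hx0 ?_
        rw [map_sub, hφX, hφC] at hx
        exact sub_eq_zero.1 hx
    have hzero' : ∀ x : A, m t x = ρ τ x := fun x => by
      have h1 := DFunLike.congr_fun hzero x
      rw [End_mul_app, map_sub φ, hφX, hφC] at h1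
      exact sub_eq_zero.1 (hinj _ (Finset.notMem_erase _ _) (h1.trans (map_zero _).symm))
    exact hb₀ (hcent b₀ (hzero' b₀))
  -- the automorphism attached to `y`
  have hcommy : ∀ n : ℕ, (L m t ^ n) y = ρ (cc ^ n) y := by
    intro n
    induction n with
    | zero =>
      rw [pow_zero, pow_zero, show ρ 1 = 1 from map_one ρh]
    | succ n ih =>
      rw [pow_succ', End_mul_app, ih, pow_succ, hρmul, End_mul_app, ← hy]
      exact DFunLike.congr_fun (hcomm0 (cc ^ n)).symm.eq y
  have hex : ∀ X : ↥T, ∃ X' : ↥T, (X : AddMonoid.End A) y = ρ X' y := by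
    intro X
    rcases hgen X with rfl | ⟨n, rfl⟩
    · refine ⟨0, ?_⟩
      rw [show ρ 0 = 0 from map_zero ρh]; rfl
    · exact ⟨cc ^ n, by rw [hLt]; exact hcommy n⟩
  choose s hs using hex
  have huniq : ∀ X X' : ↥T, ρ X y = ρ X' y → X = X' := by
    intro X X' hXX
    rcases h.eq_zero y (v X - v X') (by
      rw [map_sub, sub_eq_zero]; exact hXX) with h0 | h0
    · exact absurd h0 hy0
    · exact Subtype.ext (by rw [hv X, hv X', sub_eq_zero.1 h0])
  have hsadd : ∀ X Y, s (X + Y) = s X + s Y := fun X Y => huniq _ _ (by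
    rw [← hs, show ρ (s X + s Y) = ρ (s X) + ρ (s Y) from map_add ρh _ _]
    show (X : AddMonoid.End A) y + (Y : AddMonoid.End A) y = ρ (s X) y + ρ (s Y) y
    rw [hs, hs])
  have hsmul : ∀ X Y, s (X * Y) = s X * s Y := fun X Y => huniq _ _ (by
    rw [← hs, Subring.coe_mul, End_mul_app, hs Y,
      show (X : AddMonoid.End A) (ρ (s Y) y) = ((X : AddMonoid.End A) * ρ (s Y)) y from rfl,
      hcommT, End_mul_app, hs X,
      show ρ (s Y) (ρ (s X) y) = (ρ (s Y) * ρ (s X)) y from rfl, ← hρmul, mul_comm])
  have hs1 : s 1 = 1 := huniq _ _ (by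
    rw [← hs, show ρ 1 = 1 from map_one ρh]; rfl)
  have hs0 : s 0 = 0 := by
    have := hsadd 0 0
    rw [add_zero] at this
    exact add_eq_left.1 this.symm
  let sh : ↥T →+* ↥T :=
    { toFun := s, map_one' := hs1, map_mul' := hsmul, map_zero' := hs0, map_add' := hsadd }
  let σ : ↥T ≃+* ↥T := RingEquiv.ofBijective sh
    (Finite.injective_iff_bijective.1 sh.injective)
  have hσ : ∀ X : ↥T, (X : AddMonoid.End A) y = ρ (σ X) y := hs
  have hσcc : σ τ = cc := huniq _ _ (by
    rw [← hσ, ← hy, hv τ]; rfl)
  -- eigenspaces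
  let InA : ℕ → A → Prop := fun n z => ∀ X : ↥T, (X : AddMonoid.End A) z = ρ ((σ ^ n) X) z
  have hpow : ∀ n : ℕ, InA n (pw m e y n) ∧ ∀ X : ↥T, m y (ρ X (pw m e y n)) =
      ρ X (pw m e y (n + 1)) := by
    have hshift : ∀ n : ℕ, ∀ X : ↥T, m y (ρ X (pw m e y n)) = ρ X (pw m e y (n + 1)) := by
      intro n X
      show m y (m (pw m e y n) (v X)) = m (pw m e y (n + 1)) (v X)
      have := DFunLike.congr_fun (pow_succ' (L m y) n) (v X)
      rw [End_mul_app, h.L_pow, h.L_pow] at this
      exact this.symm
    intro n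
    refine ⟨?_, hshift n⟩
    induction n with
    | zero =>
      intro X
      rw [pow_zero, RingAut.one_apply, pw_zero]
      show (X : AddMonoid.End A) e = m e (v X)
      rw [h.one_mul]
    | succ n ih =>
      intro X
      -- `X (y z) = (y w) z + y (X z)` with `w = X + σ X`
      set x := v X with hx
      set z := pw m e y n with hz
      have hlin : L m x * L m y + L m y * L m x = L m (m x y + m y x) := by
        have h4 : ∀ a : A, L m a * L m a = L m (m a a) := fun a => by
          have := h.L_mul_mul a e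
          rwa [h.L_e, _root_.mul_one, h.one_mul] at this
        have h5 := h4 (x + y)
        simp only [map_add, AddMonoidHom.add_apply, L_add, add_mul, mul_add, ← h4 x, ← h4 y] at h5
        calc L m x * L m y + L m y * L m x
            = (L m x * L m x + L m y * L m x + (L m x * L m y + L m y * L m y))
              - (L m x * L m x + L m y * L m y) := by abel
          _ = (L m x * L m x + L m (m y x) + (L m (m x y) + L m y * L m y))
              - (L m x * L m x + L m y * L m y) := by rw [← h5]
          _ = L m (m x y + m y x) := by rw [L_add]; abel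
      set w := v (σ X + X) with hw
      have hsum : m x y + m y x = m y w := by
        have : (X : AddMonoid.End A) y = m y (v (σ X)) := hσ X
        rw [hv X, L_apply, ← hx] at this
        rw [this, hw, hx, show v (σ X + X) = v (σ X) + v X from rfl, map_add]
      have hassoc : m (m y w) z = m y (m w z) := by
        have h7 := ((h.commute_L_R y).pow_right n).eq
        rw [h.R_pow] at h7
        exact (DFunLike.congr_fun h7 w).symm
      have h6 := DFunLike.congr_fun hlin z
      rw [hsum, show (L m x * L m y + L m y * L m x) z = m x (m y z) + m y (m x z) from rfl,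
        L_apply, hassoc] at h6
      have hXz : m x z = ρ ((σ ^ n) X) z := by rw [← ih X, hv X]; rfl
      have hwz : m w z = ρ ((σ ^ n) (σ X + X)) z := by rw [← ih (σ X + X), hv (σ X + X)]; rfl
      rw [hwz, hXz, hshift, hshift, map_add,
        show ρ ((σ ^ n) (σ X) + (σ ^ n) X) = ρ ((σ ^ n) (σ X)) + ρ ((σ ^ n) X) from map_add ρh _ _]
        at h6
      rw [pow_succ, RingAut.mul_apply, hv X, L_apply, ← hx]
      show m x (pw m e y (n + 1)) = _
      rw [pw_succ] at h6 ⊢
      exact add_right_cancel (h6.trans rfl)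
  set d := orderOf σ with hd
  have hσne : σ ≠ 1 := fun h1 => hcc (by rw [← hσcc, h1, RingAut.one_apply])
  have : Finite (↥T ≃+* ↥T) := Finite.of_injective
    (fun (g : ↥T ≃+* ↥T) => (g : ↥T → ↥T)) DFunLike.coe_injective
  have hd2 : 2 ≤ d := by
    have h1 : 0 < d := orderOf_pos σ
    have h2 : d ≠ 1 := fun h2 => hσne (orderOf_eq_one_iff.1 h2)
    omega
  -- `y ^ d` lies in the fixed field
  have hyd := (hpow d).1
  have hcentd : L m (pw m e y d) ∈ T := by
    refine hcent _ ?_
    have := hyd τ
    rw [hd, pow_orderOf_eq_one, RingAut.one_apply, hv τ] at this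
    exact this
  set C : ↥T := ⟨_, hcentd⟩ with hC
  have hvC : v C = pw m e y d := by
    show L m (pw m e y d) e = _
    rw [L_apply, h.mul_one]
  have hfix : σ C = C := huniq _ _ (by
    rw [← hσ C]
    show (L m (pw m e y d)) y = m y (v C)
    rw [hvC, L_apply]
    have := ((Commute.refl (L m y)).pow_left d).eq
    have h2 := DFunLike.congr_fun this e
    rw [End_mul_app, End_mul_app, h.L_pow, L_apply, L_apply, L_apply,
      L_apply, h.mul_one, h.mul_one] at h2
    exact h2)
  have hC0 : C ≠ 0 := fun h0 => by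
    have hzero : pw m e y d = 0 := by rw [← hvC, h0]; rfl
    have hinjn : ∀ n, pw m e y n ≠ 0 := fun n => by
      induction n with
      | zero => rw [pw_zero]; exact he
      | succ n ih => rw [pw_succ]; exact fun h1 => (h.eq_zero _ _ h1).elim hy0 ih
    exact hinjn d hzero
  -- scale `y`
  obtain ⟨k₁, hk₁⟩ := exists_prod_eq σ (c := C⁻¹) (by rw [map_inv₀, hfix])
  obtain ⟨k, hk⟩ : ∃ k : ↥T, k * k = k₁ := by
    have : Function.Injective fun k : ↥T => k * k := by
      intro a b hab
      have h2 : (a - b) * (a - b) = 0 := by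
        have hneg : ∀ c : ↥T, -c = c := fun c => neg_eq_of_add_eq_zero_left
          (Subtype.ext (h.end_add_self (c : AddMonoid.End A)))
        calc (a - b) * (a - b) = a * a + b * b - (a * b + a * b) := by ring
          _ = 0 := by
            rw [show a * a = b * b from hab]
            have h3 : ∀ c : ↥T, c + c = 0 := fun c =>
              Subtype.ext (h.end_add_self (c : AddMonoid.End A))
            rw [h3, h3, sub_zero]
      exact sub_eq_zero.1 (mul_self_eq_zero.1 h2)
    exact Finite.injective_iff_surjective.1 this k₁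
  have hk0 : k ≠ 0 := by
    rintro rfl
    rw [zero_mul] at hk
    have h0 : ∏ i ∈ Finset.range (orderOf σ), (σ ^ i) (0 : ↥T) = 0 :=
      Finset.prod_eq_zero (i := 0) (Finset.mem_range.2 (orderOf_pos σ)) (map_zero _)
    rw [← hk, h0] at hk₁
    exact inv_ne_zero hC0 hk₁.symm
  set z := m (v k) (m y (v k)) with hz
  have hLz : L m z = (k : AddMonoid.End A) * L m y * (k : AddMonoid.End A) := by
    rw [hv k, h.L_mul_mul]
  have hzpow : ∀ n, pw m e z n = ρ ((∏ i ∈ Finset.range n, (σ ^ i) k) *
      (∏ i ∈ Finset.range n, (σ ^ (i + 1)) k)) (pw m e y n) := by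
    intro n
    induction n with
    | zero => rw [Finset.prod_range_zero, Finset.prod_range_zero, _root_.one_mul,
        show ρ 1 = 1 from map_one ρh, pw_zero, pw_zero]; rfl
    | succ n ih =>
      set M := (∏ i ∈ Finset.range n, (σ ^ i) k) * (∏ i ∈ Finset.range n, (σ ^ (i + 1)) k) with hM
      rw [pw_succ, ← L_apply, ih, hLz]
      show (k : AddMonoid.End A) (m y ((k : AddMonoid.End A) (ρ M (pw m e y n)))) = _
      rw [show (k : AddMonoid.End A) (ρ M (pw m e y n)) =
        ((k : AddMonoid.End A) * ρ M) (pw m e y n) from rfl, hcommT, End_mul_app,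
        (hpow n).1 k, show ρ M (ρ ((σ ^ n) k) (pw m e y n)) =
        (ρ M * ρ ((σ ^ n) k)) (pw m e y n) from rfl, ← hρmul, (hpow n).2,
        show (k : AddMonoid.End A) (ρ (M * (σ ^ n) k) (pw m e y (n + 1))) =
          ((k : AddMonoid.End A) * ρ (M * (σ ^ n) k)) (pw m e y (n + 1)) from rfl,
        hcommT, End_mul_app, (hpow (n + 1)).1 k,
        show ρ (M * (σ ^ n) k) (ρ ((σ ^ (n + 1)) k) (pw m e y (n + 1))) =
          (ρ (M * (σ ^ n) k) * ρ ((σ ^ (n + 1)) k)) (pw m e y (n + 1)) from rfl, ← hρmul,
        Finset.prod_range_succ, Finset.prod_range_succ, hM]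
      congr 2
      ring
  have hzd : pw m e z d = e := by
    rw [hzpow]
    have hshift : ∏ i ∈ Finset.range d, (σ ^ (i + 1)) k = ∏ i ∈ Finset.range d, (σ ^ i) k := by
      have h1 := Finset.prod_range_succ' (fun i => (σ ^ i) k) d
      have h2 := Finset.prod_range_succ (fun i => (σ ^ i) k) d
      rw [h2, hd, pow_orderOf_eq_one, pow_zero] at h1
      exact (mul_right_cancel₀ (by rw [RingAut.one_apply]; exact hk0) h1).symm
    rw [hshift, ← Finset.prod_mul_distrib]
    have : ∏ i ∈ Finset.range d, (σ ^ i) k * (σ ^ i) k = C⁻¹ := by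
      rw [← hk₁]; exact Finset.prod_congr rfl fun i _ => by rw [← map_mul, hk]
    rw [this, ← hvC, ← h.mul_one (v C)]
    show ρ C⁻¹ (ρ 1 (v C)) = e
    rw [show ρ C⁻¹ (ρ 1 (v C)) = (ρ C⁻¹ * ρ 1) (v C) from rfl, ← hρmul, _root_.mul_one,
      show v C = ρ C e from (h.one_mul _).symm,
      show ρ C⁻¹ (ρ C e) = (ρ C⁻¹ * ρ C) e from rfl, ← hρmul, inv_mul_cancel₀ hC0,
      show ρ 1 = 1 from map_one ρh]
    rfl
  -- independence
  have hzA : ∀ n, InA n (pw m e z n) := by
    intro n X
    rw [hzpow, show ∀ M, (X : AddMonoid.End A) (ρ M (pw m e y n)) =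
      ((X : AddMonoid.End A) * ρ M) (pw m e y n) from fun _ => rfl, hcommT,
      End_mul_app, (hpow n).1 X]
    exact DFunLike.congr_fun ((hρmul _ _).symm.trans ((congrArg ρ (mul_comm _ _)).trans (hρmul _ _)))
      (pw m e y n)
  have hz0 : z ≠ 0 := fun h0 => by
    have h1 : m (v k) (m y (v k)) = 0 := by rw [← hz]; exact h0
    have hvk : v k ≠ 0 := fun h2 => hk0 (Subtype.ext (by rw [hv k, h2, L_zero]; rfl))
    rcases h.eq_zero _ _ h1 with h2 | h2
    · exact hvk h2
    · exact (h.eq_zero _ _ h2).elim hy0 hvk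
  have hzn0 : ∀ n, pw m e z n ≠ 0 := fun n => by
    induction n with
    | zero => rw [pw_zero]; exact he
    | succ n ih => rw [pw_succ]; exact fun h1 => (h.eq_zero _ _ h1).elim hz0 ih
  have hinjσ : ∀ i j, i < j → j < d → (σ ^ i) τ ≠ (σ ^ j) τ := by
    intro i j hij hjd heq
    have : σ ^ i = σ ^ j := by
      ext X
      rcases hgen X with rfl | ⟨n, rfl⟩
      · rw [map_zero, map_zero]
      · rw [map_pow, map_pow, heq]
    exact absurd (pow_injOn_Iio_orderOf (show i ∈ Set.Iio _ from lt_trans hij hjd)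
      (show j ∈ Set.Iio _ from hjd) this) hij.ne
  have hindep : ∀ n ≤ d, ∀ M : ℕ → ↥T,
      ∑ i ∈ Finset.range n, ρ (M i) (pw m e z i) = 0 → ∀ i < n, M i = 0 := by
    intro n
    induction n with
    | zero => intro _ M _ i hi; exact absurd hi (Nat.not_lt_zero i)
    | succ n ih =>
      intro hn M hsum i hi
      have h1 : ∑ i ∈ Finset.range (n + 1),
          ρ (M i * ((σ ^ i) τ - (σ ^ n) τ)) (pw m e z i) = 0 := by
        have e1 : ∀ i, ρ (M i * ((σ ^ i) τ - (σ ^ n) τ)) (pw m e z i) =
            (((τ : ↥T) : AddMonoid.End A) - ρ ((σ ^ n) τ)) (ρ (M i) (pw m e z i)) := by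
          intro i
          show _ = ((τ : ↥T) : AddMonoid.End A) (ρ (M i) (pw m e z i))
            - ρ ((σ ^ n) τ) (ρ (M i) (pw m e z i))
          rw [show ((τ : ↥T) : AddMonoid.End A) (ρ (M i) (pw m e z i)) =
              (((τ : ↥T) : AddMonoid.End A) * ρ (M i)) (pw m e z i) from rfl, hcommT,
            End_mul_app, hzA i τ,
            show ρ (M i) (ρ ((σ ^ i) τ) (pw m e z i)) = (ρ (M i) * ρ ((σ ^ i) τ)) (pw m e z i) from rfl,
            ← hρmul,
            show ρ ((σ ^ n) τ) (ρ (M i) (pw m e z i)) = (ρ ((σ ^ n) τ) * ρ (M i)) (pw m e z i) from rfl,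
            ← hρmul, mul_sub, show ρ (M i * (σ ^ i) τ - M i * (σ ^ n) τ) =
              ρ (M i * (σ ^ i) τ) - ρ (M i * (σ ^ n) τ) from map_sub ρh _ _, mul_comm ((σ ^ n) τ)]
          rfl
        rw [Finset.sum_congr rfl fun i _ => e1 i, ← map_sum, hsum, map_zero]
      rw [Finset.sum_range_succ, sub_self, mul_zero, show ρ 0 = 0 from map_zero ρh] at h1
      have h2 := ih (by omega) _ ((add_zero _).symm.trans h1)
      have h3 : ∀ j < n, M j = 0 := fun j hj =>
        (mul_eq_zero.1 (h2 j hj)).resolve_right (sub_ne_zero.2 (hinjσ j n hj (by omega)))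
      rcases Nat.lt_succ_iff_lt_or_eq.1 hi with hlt | rfl
      · exact h3 i hlt
      · rw [Finset.sum_range_succ, Finset.sum_eq_zero fun j hj => by
          rw [h3 j (Finset.mem_range.1 hj), show ρ 0 = 0 from map_zero ρh]; rfl, zero_add] at hsum
        by_contra hM
        rcases h.eq_zero _ _ (show m (pw m e z i) (v (M i)) = 0 from hsum) with h0 | h0
        · exact hzn0 i h0
        · exact hM (Subtype.ext (by rw [hv (M i), h0, L_zero]; rfl))
  have hzne : z + e ≠ 0 := by
    intro h0
    have hze : z = e := h.eq_of_add_eq_zero h0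
    have h1 := hindep 2 hd2 (fun _ => 1) (by
      rw [Finset.sum_range_succ, Finset.sum_range_one, pw_succ, pw_zero, h.mul_one, hze,
        show ρ (1 : ↥T) = 1 from map_one ρh]
      exact h.add_self e) 0 (by omega)
    exact one_ne_zero h1
  have hS : ∑ i ∈ Finset.range d, pw m e z i = 0 := by
    set S := ∑ i ∈ Finset.range d, pw m e z i with hS
    have h1 : m z S = S := by
      have h2 := Finset.sum_range_succ' (fun i => pw m e z i) d
      rw [Finset.sum_range_succ, hzd, pw_zero] at h2
      rw [hS, map_sum]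
      simp only [← pw_succ]
      exact add_right_cancel h2.symm
    refine (h.eq_zero (z + e) S ?_).resolve_left hzne
    rw [map_add, AddMonoidHom.add_apply, h1, h.one_mul, h.add_self]
  exact one_ne_zero (hindep d le_rfl (fun _ => 1) (by
    rw [show ρ (1 : ↥T) = 1 from map_one ρh]; exact hS) 0 (by omega))

end Finite

end IsIPSemifield

end CfsgLib.InverseSemifield
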