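import Cfsg.Agent.Stages.TISpread
import Cfsg.Agent.Stages.InverseSemifield
import Cfsg.Agent.Linear.Perfect
import Mathlib.GroupTheory.Subgroup.Centralizer

/-!
# The group induced on `W = V U` is `SL₂`

Continuation of `TISpread`: the commutator map gives a semifield with the inverse property on `V`,
hence a field, and `⟨P, P_U⟩` induces `SL₂` of that field on `W`.
-/

set_option autoImplicit false
set_option linter.unusedSectionVars false

open Subgroup Cfsg CfsgLib.InverseSemifield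
open scoped commutatorElement

namespace CfsgLib.TISpread

variable {G : Type*} [Group G] [Finite G] {V U Y : Subgroup G}

/-- `P` acts on `V U` through `Y`. -/
theorem IsPair.exists_same_action (hV : IsConfig V) (h : IsPair V U Y) {p : G} (hp : p ∈ pOf V) :
    ∃ y ∈ Y, ∀ u ∈ U, ⁅p, u⁆ = ⁅y, u⁆ := by
  obtain ⟨y, hy, hyU⟩ := h.exists_decomp hV hp
  refine ⟨y, hy, fun u hu => ?_⟩
  have h1 : ⁅p * y, u⁆ = 1 := commutatorElement_eq_one_iff_mul_comm.2 (hyU u hu)
  rw [commutator_mul_left hV hp (h.right.le hy) (h.left.le hu)] at h1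
  rw [eq_inv_of_mul_eq_one_left h1, inv_eq_self' hV (commutator_mem hV (h.right.le hy) (h.left.le hu))]

/-- The lower transvection inverse to the upper one of `y`. -/
theorem IsPair.exists_lower (hV : IsConfig V) (h : IsPair V U Y) {y : G} (hy : y ∈ Y)
    (hy1 : y ≠ 1) : ∃ e ∈ pOf U, ∀ v ∈ V, ∀ u ∈ U, ⁅y, u⁆ = v → ⁅e, v⁆ = u := by
  obtain ⟨x, hx⟩ := h.left.conj
  have hyP := h.right.le hy
  have hle : cj (y * x) V ≤ V ⊔ U := by rw [← cj_cj, ← hx]; exact cj_member_le hV h.left hyP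
  have hmem : ∀ u ∈ U, y * u * y⁻¹ ∈ cj (y * x) V := fun u hu => by
    rw [← cj_cj, ← hx]; exact conj_mem_cj hu
  have hval : ∀ u ∈ U, y * u * y⁻¹ = ⁅y, u⁆ * u := fun u _ => by
    simp only [commutatorElement_def]; group
  rcases eq_or_exists_cj_right hV h.left hle with he | ⟨e, he, heq⟩
  · exfalso
    obtain ⟨u, hu, hu1⟩ := h.left.exists_ne_one
    have h1 := hmem u hu
    rw [he, hval u hu] at h1
    have h2 : ⁅y, u⁆ ∈ U := by simpa using mul_mem h1 (inv_mem hu)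
    exact (h.symm hV).commutator_ne_one hV hy hu hy1 hu1
      (h.left.disjoint hV h2 (commutator_mem hV hyP (h.left.le hu)))
  refine ⟨e, he, fun v hv u hu huv => ?_⟩
  have h1 := hmem u hu
  rw [heq, hval u hu, huv] at h1
  obtain ⟨v₀, hv₀, hev⟩ := h1
  change e * v₀ * e⁻¹ = v * u at hev
  have hc := commutator_mem_right hV h.left he hv₀
  rw [show e * v₀ * e⁻¹ = ⁅e, v₀⁆ * v₀ by simp only [commutatorElement_def]; group,
    ← pOf_commute (h.left.le hu) hv] at hev
  have hvv : v = v₀ := by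
    have hm : v * v₀⁻¹ ∈ U := by
      rw [show v * v₀⁻¹ = u⁻¹ * (u * v * v₀⁻¹) by group, ← hev, mul_inv_cancel_right]
      exact mul_mem (inv_mem hu) hc
    exact mul_inv_eq_one.1 (h.left.disjoint hV hm (mul_mem hv (inv_mem hv₀)))
  rw [hvv] at hev ⊢
  exact mul_right_cancel hev

/-- Conversely, a lower transvection is inverse to an upper one. -/
theorem IsPair.exists_upper (hV : IsConfig V) (h : IsPair V U Y) {e : G} (he : e ∈ pOf U) :
    (∀ v ∈ V, ⁅e, v⁆ = 1) ∨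
      ∃ y ∈ Y, ∀ v ∈ V, ∀ u ∈ U, ⁅e, v⁆ = u → ⁅y, u⁆ = v := by
  obtain ⟨x, hx⟩ := h.left.conj
  have hle : cj e V ≤ V ⊔ U := by
    rintro _ ⟨v, hv, rfl⟩
    show e * v * e⁻¹ ∈ V ⊔ U
    rw [show e * v * e⁻¹ = ⁅e, v⁆ * v by simp only [commutatorElement_def]; group]
    exact mul_mem (mem_sup_right (commutator_mem_right hV h.left he hv)) (mem_sup_left hv)
  rcases eq_or_exists_cj hV h.left hle with heq | ⟨p, hp, heq⟩
  · refine Or.inl fun v hv => h.left.disjoint hV (commutator_mem_right hV h.left he hv) ?_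
    rw [commutatorElement_def]
    exact mul_mem (heq.le (conj_mem_cj hv)) (inv_mem hv)
  obtain ⟨y, hy, hpy⟩ := h.exists_same_action hV hp
  refine Or.inr ⟨y, hy, fun v hv u hu huv => ?_⟩
  have h1 : e * v * e⁻¹ ∈ cj p U := heq ▸ conj_mem_cj hv
  obtain ⟨u', hu', hpu⟩ := h1
  change p * u' * p⁻¹ = e * v * e⁻¹ at hpu
  rw [show p * u' * p⁻¹ = ⁅p, u'⁆ * u' by simp only [commutatorElement_def]; group,
    show e * v * e⁻¹ = ⁅e, v⁆ * v by simp only [commutatorElement_def]; group, huv,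
    hpy u' hu', pOf_commute (h.left.le hu) hv] at hpu
  have hc := commutator_mem hV (h.right.le hy) (h.left.le hu')
  have huu : u = u' := by
    have hm : u * u'⁻¹ ∈ V := by
      rw [show u * u'⁻¹ = v⁻¹ * (v * u * u'⁻¹) by group, ← hpu, mul_inv_cancel_right]
      exact mul_mem (inv_mem hv) hc
    exact mul_inv_eq_one.1 (h.left.disjoint hV (mul_mem hu (inv_mem hu')) hm)
  rw [← huu] at hpu
  exact mul_right_cancel hpu

/-- The slopes are closed under inversion. -/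
theorem IsPair.spread_inv (hV : IsConfig V) (h : IsPair V U Y) {y₀ y : G} (hy₀ : y₀ ∈ Y)
    (hy₀1 : y₀ ≠ 1) (hy : y ∈ Y) (hy1 : y ≠ 1) :
    ∃ y' ∈ Y, ∀ u ∈ U, ∀ u₁ ∈ U, ⁅y, u⁆ = ⁅y₀, u₁⁆ → ⁅y', u₁⁆ = ⁅y₀, u⁆ := by
  have hY := h.right
  have hinj : ∀ z ∈ Y, z ≠ 1 → ∀ a ∈ U, ∀ b ∈ U, ⁅z, a⁆ = ⁅z, b⁆ → a = b := by
    intro z hz hz1 a ha b hb hab
    by_contra hne
    refine (h.symm hV).commutator_ne_one hV hz (mul_mem ha hb) hz1 (fun h' => hne ?_) ?_
    · calc a = a * b * b := by rw [mul_assoc, h.left.sq hV hb, mul_one]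
        _ = b := by rw [h', one_mul]
    · rw [commutator_mul_right hV (hY.le hz) (h.left.le ha) (h.left.le hb), hab,
        sq_eq_one' hV (commutator_mem hV (hY.le hz) (h.left.le hb))]
  set z := y * y₀ with hz
  have hzY : z ∈ Y := mul_mem hy hy₀
  by_cases hz1 : z = 1
  · have hyy : y = y₀ := by
      calc y = z * y₀ := by rw [hz, mul_assoc, hY.sq hV hy₀, mul_one]
        _ = y₀ := by rw [hz1, one_mul]
    refine ⟨y₀, hy₀, fun u hu u₁ hu₁ huu => ?_⟩
    rw [hyy] at huu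
    rw [hinj y₀ hy₀ hy₀1 u hu u₁ hu₁ huu]
  obtain ⟨e₀, he₀, hle₀⟩ := h.exists_lower hV hy₀ hy₀1
  obtain ⟨e₁, he₁, hle₁⟩ := h.exists_lower hV hzY hz1
  -- the value of `e₁ e₀`
  have key : ∀ u ∈ U, ∀ u₁ ∈ U, ⁅y, u⁆ = ⁅y₀, u₁⁆ →
      ⁅e₁ * e₀, ⁅y₀, u₁⁆ * ⁅y₀, u⁆⁆ = u₁ := by
    intro u hu u₁ hu₁ huu
    set a := ⁅y₀, u₁⁆ with ha
    set b := ⁅y₀, u⁆ with hb
    have haV : a ∈ V := commutator_mem hV (hY.le hy₀) (h.left.le hu₁)
    have hbV : b ∈ V := commutator_mem hV (hY.le hy₀) (h.left.le hu)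
    have hzu : ⁅z, u⁆ = a * b := by
      rw [hz, commutator_mul_left hV (hY.le hy) (hY.le hy₀) (h.left.le hu), huu]
    have h1 : ⁅e₁, a * b⁆ = u := hle₁ _ (mul_mem haV hbV) u hu hzu
    have hra : ⁅e₀, a⁆ = u₁ := hle₀ a haV u₁ hu₁ rfl
    have hrb : ⁅e₀, b⁆ = u := hle₀ b hbV u hu rfl
    have h2 : ⁅e₀, a * b⁆ = u₁ * u := by
      rw [show ⁅e₀, a * b⁆ = ⁅e₀, a⁆ * (a * ⁅e₀, b⁆ * a⁻¹) by
        simp only [commutatorElement_def]; group, hra, hrb,
        mul_inv_eq_of_eq_mul (pOf_commute (h.left.le hu) haV).symm]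
    rw [show ⁅e₁ * e₀, a * b⁆ = e₁ * ⁅e₀, a * b⁆ * e₁⁻¹ * ⁅e₁, a * b⁆ by
      simp only [commutatorElement_def]; group, h1, h2,
      mul_inv_eq_of_eq_mul (pOf_commute he₁ (mul_mem hu₁ hu)), mul_assoc, h.left.sq hV hu, mul_one]
  rcases h.exists_upper hV (mul_mem he₁ he₀) with htriv | ⟨x, hx, hxl⟩
  · exfalso
    obtain ⟨u, hu, hu1⟩ := h.left.exists_ne_one
    obtain ⟨u₁, hu₁, huu⟩ := (h.symm hV).exists_eq hV hy₀ hy₀1
      (commutator_mem hV (hY.le hy) (h.left.le hu))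
    have hk := key u hu u₁ hu₁ huu.symm
    rw [htriv _ (mul_mem (commutator_mem hV (hY.le hy₀) (h.left.le hu₁))
      (commutator_mem hV (hY.le hy₀) (h.left.le hu)))] at hk
    rw [← hk, commutatorElement_one_right] at huu
    exact (h.symm hV).commutator_ne_one hV hy hu hy1 hu1 huu.symm
  refine ⟨x * y₀, mul_mem hx hy₀, fun u hu u₁ hu₁ huu => ?_⟩
  have haV := commutator_mem hV (hY.le hy₀) (h.left.le hu₁)
  have hbV := commutator_mem hV (hY.le hy₀) (h.left.le hu)
  rw [commutator_mul_left hV (hY.le hx) (hY.le hy₀) (h.left.le hu₁),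
    hxl _ (mul_mem haV hbV) u₁ hu₁ (key u hu u₁ hu₁ huu), comm' hV haV hbV, mul_assoc,
    sq_eq_one' hV haV, mul_one]

set_option maxHeartbeats 2000000 in
/-- `⟨P, P_U⟩` induces `SL₂` of a field with `|V|` elements on `V U`. -/
theorem exists_quotient_equiv_SL2 (hV : IsConfig V) (hU : IsMember V U) :
    ∀ _hN : ((centralizer ((V ⊔ U : Subgroup G) : Set G)).subgroupOf (pOf V ⊔ pOf U)).Normal,
      ∃ (F : Type) (_ : Field F) (_ : Fintype F), Fintype.card F = Nat.card ↥V ∧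
        Nonempty ((↥(pOf V ⊔ pOf U) ⧸
            (centralizer ((V ⊔ U : Subgroup G) : Set G)).subgroupOf (pOf V ⊔ pOf U)) ≃*
          Matrix.SpecialLinearGroup (Fin 2) F) := by
  intro hN
  classical
  obtain ⟨Y, hpair⟩ := exists_pair hV hU
  have hY := hpair.right
  obtain ⟨w₀, hw₀, hw₀1⟩ := hU.exists_ne_one
  obtain ⟨y₀, hy₀, hy₀1⟩ := hY.exists_ne_one
  -- the two coordinate maps
  let φf : ↥U → ↥V := fun w => ⟨⁅(w : G), y₀⁆, commutator_mem hV (hU.le w.2) (hY.le hy₀)⟩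
  let ψf : ↥Y → ↥V := fun y => ⟨⁅w₀, (y : G)⁆, commutator_mem hV (hU.le hw₀) (hY.le y.2)⟩
  have hsurjφ : Function.Surjective φf := fun v => by
    obtain ⟨w, hw, hwv⟩ := (hpair.symm hV).exists_eq hV hy₀ hy₀1 v.2
    exact ⟨⟨w, hw⟩, Subtype.ext
      ((commutator_symm hV (hU.le hw) (hY.le hy₀)).trans hwv)⟩
  have hsurjψ : Function.Surjective ψf := fun v => by
    obtain ⟨y, hy, hyv⟩ := hpair.exists_eq hV hw₀ hw₀1 v.2
    exact ⟨⟨y, hy⟩, Subtype.ext hyv⟩
  let φ : ↥U ≃ ↥V := Equiv.ofBijective φf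
    (hsurjφ.bijective_of_nat_card_le hpair.left.card.le)
  let ψ : ↥Y ≃ ↥V := Equiv.ofBijective ψf
    (hsurjψ.bijective_of_nat_card_le hpair.right.card.le)
  have hφ : ∀ v : ↥V, ⁅((φ.symm v : ↥U) : G), y₀⁆ = v := fun v =>
    congrArg Subtype.val (φ.apply_symm_apply v)
  have hψ : ∀ v : ↥V, ⁅w₀, ((ψ.symm v : ↥Y) : G)⁆ = v := fun v =>
    congrArg Subtype.val (ψ.apply_symm_apply v)
  let cgV : CommGroup ↥V :=
    { (inferInstance : Group ↥V) with mul_comm := fun a b => Subtype.ext (comm' hV a.2 b.2) }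
  have hφadd : ∀ a b : ↥V, φ.symm (a * b) = φ.symm a * φ.symm b := fun a b =>
    φ.symm_apply_eq.2 (Subtype.ext (by
      show ((a : G) * b) = ⁅((φ.symm a : ↥U) : G) * (φ.symm b : ↥U), y₀⁆
      rw [commutator_mul_left hV (hU.le (φ.symm a).2) (hU.le (φ.symm b).2) (hY.le hy₀), hφ, hφ]))
  have hψadd : ∀ a b : ↥V, ψ.symm (a * b) = ψ.symm a * ψ.symm b := fun a b =>
    ψ.symm_apply_eq.2 (Subtype.ext (by
      show ((a : G) * b) = ⁅w₀, ((ψ.symm a : ↥Y) : G) * (ψ.symm b : ↥Y)⁆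
      rw [commutator_mul_right hV (hU.le hw₀) (hY.le (ψ.symm a).2) (hY.le (ψ.symm b).2), hψ, hψ]))
  -- the semifield
  let A := Additive ↥V
  let μ : ↥V → ↥V → ↥V := fun a b => ⟨⁅((φ.symm a : ↥U) : G), ((ψ.symm b : ↥Y) : G)⁆,
    commutator_mem hV (hU.le (φ.symm a).2) (hY.le (ψ.symm b).2)⟩
  have hμl : ∀ a b c, μ (a * b) c = μ a c * μ b c := fun a b c => Subtype.ext (by
    show ⁅((φ.symm (a * b) : ↥U) : G), _⁆ = _
    rw [hφadd, Subgroup.coe_mul]
    exact commutator_mul_left hV (hU.le (φ.symm a).2) (hU.le (φ.symm b).2) (hY.le (ψ.symm c).2))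
  have hμr : ∀ a b c, μ a (b * c) = μ a b * μ a c := fun a b c => Subtype.ext (by
    show ⁅_, ((ψ.symm (b * c) : ↥Y) : G)⁆ = _
    rw [hψadd, Subgroup.coe_mul]
    exact commutator_mul_right hV (hU.le (φ.symm a).2) (hY.le (ψ.symm b).2) (hY.le (ψ.symm c).2))
  let m : A →+ A →+ A := AddMonoidHom.mk'
    (fun a => AddMonoidHom.mk' (fun b => Additive.ofMul (μ a.toMul b.toMul)) fun b c => hμr _ b.toMul c.toMul)
    fun a b => AddMonoidHom.ext fun c => hμl a.toMul b.toMul c.toMul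
  let e : A := Additive.ofMul
    (⟨⁅w₀, y₀⁆, commutator_mem hV (hU.le hw₀) (hY.le hy₀)⟩ : ↥V)
  have hφe : φ.symm e.toMul = ⟨w₀, hw₀⟩ := φ.symm_apply_eq.2 rfl
  have hψe : ψ.symm e.toMul = ⟨y₀, hy₀⟩ := ψ.symm_apply_eq.2 rfl
  have hne0 : ∀ a : A, a ≠ 0 → ((φ.symm a.toMul : ↥U) : G) ≠ 1 ∧ ((ψ.symm a.toMul : ↥Y) : G) ≠ 1 := by
    intro a ha
    have hav : a.toMul ≠ 1 := fun h => ha h
    refine ⟨fun h => hav ?_, fun h => hav ?_⟩
    · refine Subtype.ext ?_
      rw [← hφ a.toMul, h, commutatorElement_one_left]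
      rfl
    · refine Subtype.ext ?_
      rw [← hψ a.toMul, h, commutatorElement_one_right]
      rfl
  have hIP : IsIPSemifield m e := by
    refine ⟨fun x => ?_, fun x => ?_, fun x => ?_, fun x y hxy => ?_, fun a ha => ?_, fun a ha => ?_⟩
    · exact Subtype.ext (sq_eq_one' hV x.toMul.2)
    · show Additive.ofMul (μ e.toMul x.toMul) = x
      refine congrArg Additive.ofMul (Subtype.ext ?_)
      show ⁅((φ.symm e.toMul : ↥U) : G), _⁆ = _
      rw [hφe]; exact hψ x.toMul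
    · show Additive.ofMul (μ x.toMul e.toMul) = x
      refine congrArg Additive.ofMul (Subtype.ext ?_)
      show ⁅_, ((ψ.symm e.toMul : ↥Y) : G)⁆ = _
      rw [hψe]; exact hφ x.toMul
    · by_contra hcon
      push Not at hcon
      exact hpair.commutator_ne_one hV (φ.symm x.toMul).2 (ψ.symm y.toMul).2 (hne0 x hcon.1).1
        (hne0 y hcon.2).2 (congrArg (fun z : A => ((z.toMul : ↥V) : G)) hxy)
    · obtain ⟨w', hw', hinv⟩ := (hpair.symm hV).spread_inv hV hw₀ hw₀1 (φ.symm a.toMul).2 (hne0 a ha).1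
      refine ⟨Additive.ofMul (φ ⟨w', hw'⟩), fun x => congrArg Additive.ofMul (Subtype.ext ?_)⟩
      show ⁅((φ.symm (φ ⟨w', hw'⟩) : ↥U) : G),
        ((ψ.symm (μ a.toMul x.toMul) : ↥Y) : G)⁆ = _
      rw [φ.symm_apply_apply, hinv _ (ψ.symm x.toMul).2 _ (ψ.symm (μ a.toMul x.toMul)).2
        (hψ (μ a.toMul x.toMul)).symm]
      exact hψ x.toMul
    · obtain ⟨y', hy', hinv⟩ := hpair.spread_inv hV hy₀ hy₀1 (ψ.symm a.toMul).2 (hne0 a ha).2
      refine ⟨Additive.ofMul (ψ ⟨y', hy'⟩), fun x => congrArg Additive.ofMul (Subtype.ext ?_)⟩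
      show ⁅((φ.symm (μ x.toMul a.toMul) : ↥U) : G), ((ψ.symm (ψ ⟨y', hy'⟩) : ↥Y) : G)⁆ = _
      rw [ψ.symm_apply_apply, commutator_symm hV (hU.le (φ.symm _).2) (hY.le hy')]
      rw [hinv _ (φ.symm x.toMul).2 _ (φ.symm (μ x.toMul a.toMul)).2 (by
        rw [commutator_symm hV (hY.le (ψ.symm a.toMul).2) (hU.le (φ.symm x.toMul).2),
          commutator_symm hV (hY.le hy₀) (hU.le (φ.symm _).2)]
        exact (hφ (μ x.toMul a.toMul)).symm),
        commutator_symm hV (hY.le hy₀) (hU.le (φ.symm x.toMul).2)]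
      exact hφ x.toMul
  obtain ⟨hmc, hma⟩ := hIP.mul_comm_and_assoc
  let cr : CommRing A :=
    { (inferInstance : AddCommGroup A) with
      mul := fun a b => m a b
      one := e
      left_distrib := fun a b c => (m a).map_add b c
      right_distrib := fun a b c => DFunLike.congr_fun (m.map_add a b) c
      zero_mul := fun a => DFunLike.congr_fun m.map_zero a
      mul_zero := fun a => (m a).map_zero
      mul_assoc := hma
      one_mul := hIP.one_mul
      mul_one := hIP.mul_one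
      mul_comm := hmc }
  have : Nontrivial A := ⟨⟨e, 0, fun he0 =>
    hpair.commutator_ne_one hV hw₀ hy₀ hw₀1 hy₀1 (congrArg (fun z : A => ((z.toMul : ↥V) : G)) he0)⟩⟩
  have : NoZeroDivisors A := ⟨fun {a b} hab => hIP.eq_zero a b hab⟩
  have : IsDomain A := NoZeroDivisors.to_isDomain _
  let fA : Field A := (Finite.isField_of_domain A).toField
  have hmul : ∀ a b : A, a * b = m a b := fun a b => rfl
  -- the size of `V`
  obtain ⟨f, hf⟩ := IsPGroup.iff_card.1 ((isPGroup_qOf V).to_le (le_qOf hV))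
  have hf0 : f ≠ 0 := by
    rintro rfl
    rw [pow_zero] at hf
    have hb := Subgroup.eq_bot_of_card_eq V hf
    exact hpair.commutator_ne_one hV hw₀ hy₀ hw₀1 hy₀1
      (mem_bot.1 (hb ▸ commutator_mem hV (hU.le hw₀) (hY.le hy₀)))
  have hcA : Nat.card A = 2 ^ f := (Nat.card_congr Additive.toMul).trans hf
  have : Fintype A := Fintype.ofFinite A
  have : Fintype (GaloisField 2 f) := Fintype.ofFinite _
  have hcF : Fintype.card A = Fintype.card (GaloisField 2 f) := by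
    rw [← Nat.card_eq_fintype_card, ← Nat.card_eq_fintype_card, hcA, GaloisField.card 2 f hf0]
  refine ⟨GaloisField 2 f, inferInstance, inferInstance, by
    rw [← hcF, ← Nat.card_eq_fintype_card, hcA, hf], ?_⟩
  let τ : A ≃+* GaloisField 2 f := FiniteField.ringEquivOfCardEq hcF
  let eSL : Matrix.SpecialLinearGroup (Fin 2) A ≃* Matrix.SpecialLinearGroup (Fin 2) (GaloisField 2 f) :=
    MonoidHom.toMulEquiv (Matrix.SpecialLinearGroup.map τ.toRingHom)
      (Matrix.SpecialLinearGroup.map τ.symm.toRingHom)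
      (MonoidHom.ext fun g => Subtype.ext (Matrix.ext fun i j => τ.symm_apply_apply _))
      (MonoidHom.ext fun g => Subtype.ext (Matrix.ext fun i j => τ.apply_symm_apply _))
  -- coordinates on `W`
  set W : Subgroup G := V ⊔ U
  let κf : A × A → ↥W := fun ab => ⟨(ab.1.toMul : ↥V) * ((φ.symm ab.2.toMul : ↥U) : G),
    mul_mem (mem_sup_left ab.1.toMul.2) (mem_sup_right (φ.symm ab.2.toMul).2)⟩
  have hκb : Function.Bijective κf := by
    constructor
    · rintro ⟨a, b⟩ ⟨a', b'⟩ hab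
      have h1 : ((a.toMul : ↥V) : G) * (φ.symm b.toMul : ↥U) = (a'.toMul : ↥V) * (φ.symm b'.toMul : ↥U) :=
        congrArg Subtype.val hab
      have h2 : ((a'.toMul : ↥V) : G)⁻¹ * (a.toMul : ↥V) =
          (φ.symm b'.toMul : ↥U) * ((φ.symm b.toMul : ↥U) : G)⁻¹ := by
        rw [inv_mul_eq_iff_eq_mul, ← mul_assoc, ← h1, mul_inv_cancel_right]
      have h3 : ((a'.toMul : ↥V) : G)⁻¹ * (a.toMul : ↥V) = 1 := hU.disjoint hV
        (h2 ▸ mul_mem (φ.symm b'.toMul).2 (inv_mem (φ.symm b.toMul).2))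
        (mul_mem (inv_mem a'.toMul.2) a.toMul.2)
      refine Prod.ext (Subtype.ext (inv_mul_eq_one.1 h3).symm) ?_
      rw [h3] at h2
      exact φ.symm.injective (Subtype.ext (mul_inv_eq_one.1 h2.symm).symm)
    · rintro ⟨a, ha⟩
      obtain ⟨v, hv, u, hu, rfl⟩ := mem_sup_member hV hU ha
      exact ⟨(Additive.ofMul (⟨v, hv⟩ : ↥V), Additive.ofMul (φ ⟨u, hu⟩)),
        Subtype.ext (by show v * ((φ.symm (φ ⟨u, hu⟩) : ↥U) : G) = v * u; rw [φ.symm_apply_apply])⟩
  let κ : A × A ≃ ↥W := Equiv.ofBijective κf hκb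
  set H := pOf V ⊔ pOf U
  have hHW : H ≤ normalizer (W : Set G) := sup_le_normalizer hV hU
  let ρ : ↥H →* Equiv.Perm (A × A) := MonoidHom.mk'
    (fun h => κ.trans (((Subgroup.normalizerMonoidHom W) ⟨h, hHW h.2⟩).toEquiv.trans κ.symm))
    fun g h => by
      ext x : 1
      show κ.symm ((Subgroup.normalizerMonoidHom W ⟨(g : G) * h, _⟩) (κ x)) = _
      rw [show (⟨(g : G) * h, hHW (mul_mem g.2 h.2)⟩ : ↥(normalizer (W : Set G))) =
        ⟨g, hHW g.2⟩ * ⟨h, hHW h.2⟩ from rfl, map_mul]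
      show _ = κ.symm ((Subgroup.normalizerMonoidHom W ⟨g, _⟩)
        (κ (κ.symm ((Subgroup.normalizerMonoidHom W ⟨h, _⟩) (κ x)))))
      rw [κ.apply_symm_apply]
      rfl
  have hρ : ∀ (h : ↥H) (x y : A × A), (h : G) * (κ x : ↥W) * (h : G)⁻¹ = (κ y : ↥W) → ρ h x = y := by
    intro h x y hxy
    show κ.symm _ = y
    rw [κ.symm_apply_eq]
    exact Subtype.ext hxy
  have hρker : ρ.ker = (centralizer (W : Set G)).subgroupOf H := by
    ext h
    rw [MonoidHom.mem_ker, mem_subgroupOf, mem_centralizer_iff]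
    constructor
    · intro hh w hw
      have h1 : κ.symm ((Subgroup.normalizerMonoidHom W ⟨h, hHW h.2⟩) (κ (κ.symm ⟨w, hw⟩))) =
          κ.symm ⟨w, hw⟩ := DFunLike.congr_fun hh _
      rw [κ.apply_symm_apply, κ.symm.injective.eq_iff] at h1
      exact (mul_inv_eq_iff_eq_mul.1 (congrArg Subtype.val h1 :)).symm
    · intro hh
      ext x : 1
      refine hρ h x x ?_
      rw [← hh _ (κ x).2, mul_inv_cancel_right]
  -- `SL₂` on pairs
  let act : MulAction (Matrix.SpecialLinearGroup (Fin 2) A) (A × A) :=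
    { smul := fun g x => (g.1 0 0 * x.1 + g.1 0 1 * x.2, g.1 1 0 * x.1 + g.1 1 1 * x.2)
      one_smul := fun x => by
        show (_, _) = x
        simp
      mul_smul := fun g h x => by
        show ((g * h).1 0 0 * x.1 + (g * h).1 0 1 * x.2, (g * h).1 1 0 * x.1 + (g * h).1 1 1 * x.2) =
          (g.1 0 0 * (h.1 0 0 * x.1 + h.1 0 1 * x.2) + g.1 0 1 * (h.1 1 0 * x.1 + h.1 1 1 * x.2),
           g.1 1 0 * (h.1 0 0 * x.1 + h.1 0 1 * x.2) + g.1 1 1 * (h.1 1 0 * x.1 + h.1 1 1 * x.2))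
        simp only [Matrix.SpecialLinearGroup.coe_mul, Matrix.mul_apply, Fin.sum_univ_two]
        refine Prod.ext ?_ ?_ <;> ring }
  let χ : Matrix.SpecialLinearGroup (Fin 2) A →* Equiv.Perm (A × A) :=
    @MulAction.toPermHom (Matrix.SpecialLinearGroup (Fin 2) A) (A × A) _ act
  have hχ : ∀ g x, χ g x = (g.1 0 0 * x.1 + g.1 0 1 * x.2, g.1 1 0 * x.1 + g.1 1 1 * x.2) :=
    fun g x => rfl
  have hχinj : Function.Injective χ := by
    intro g h hgh
    have h1 := (hχ g (1, 0)).symm.trans ((DFunLike.congr_fun hgh (1, 0)).trans (hχ h (1, 0)))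
    have h2 := (hχ g (0, 1)).symm.trans ((DFunLike.congr_fun hgh (0, 1)).trans (hχ h (0, 1)))
    simp only [_root_.mul_one, mul_zero, add_zero, zero_add, Prod.mk.injEq] at h1 h2
    refine Subtype.ext (Matrix.ext fun i j => ?_)
    fin_cases i <;> fin_cases j
    exacts [h1.1, h2.1, h1.2, h2.2]
  have h01 : (0 : Fin 2) ≠ 1 := by decide
  have h10 : (1 : Fin 2) ≠ 0 := by decide
  have hup : ∀ (p : G) (hp : p ∈ H) (y : ↥Y), p ∈ pOf V → (∀ u ∈ U, ⁅p, u⁆ = ⁅(y : G), u⁆) →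
      ρ ⟨p, hp⟩ = χ (Matrix.SpecialLinearGroup.transvection h01 (Additive.ofMul (ψ y) : A)) := by
    intro p hp y hpP hpy
    ext x : 1
    refine hρ _ _ _ ?_
    obtain ⟨a, b⟩ := x
    rw [hχ]
    simp only [Matrix.SpecialLinearGroup.transvection_coe, Matrix.add_apply, Matrix.single_apply,
      Matrix.one_apply]
    norm_num
    show p * ((a.toMul : ↥V) * (φ.symm b.toMul : ↥U)) * p⁻¹ =
      (((a + Additive.ofMul (ψ y) * b : A).toMul : ↥V) : G) * (φ.symm b.toMul : ↥U)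
    have hu := (φ.symm b.toMul).2
    have e1 : ((a + Additive.ofMul (ψ y) * b : A).toMul : ↥V) =
        a.toMul * μ b.toMul (ψ y) := by
      rw [mul_comm, hmul]; rfl
    rw [e1, Subgroup.coe_mul]
    show _ = (a.toMul : ↥V) * ⁅_, ((ψ.symm (ψ y) : ↥Y) : G)⁆ * _
    rw [ψ.symm_apply_apply, commutator_symm hV (hU.le hu) (hY.le y.2), ← hpy _ hu,
      show p * ((a.toMul : ↥V) * ((φ.symm b.toMul : ↥U) : G)) * p⁻¹ =
        (p * (a.toMul : ↥V) * p⁻¹) * (⁅p, ((φ.symm b.toMul : ↥U) : G)⁆ * (φ.symm b.toMul : ↥U)) by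
          simp only [commutatorElement_def]; group,
      mul_inv_eq_of_eq_mul (pOf_commute hpP a.toMul.2), mul_assoc]
  have hlow : ∀ (q : G) (hq : q ∈ H) (k : A), q ∈ pOf U →
      (∀ a : A, ((φ.symm (k * a).toMul : ↥U) : G) = ⁅q, ((a.toMul : ↥V) : G)⁆) →
      ρ ⟨q, hq⟩ = χ (Matrix.SpecialLinearGroup.transvection h10 k) := by
    intro q hq k hqP hqk
    ext x : 1
    refine hρ _ _ _ ?_
    obtain ⟨a, b⟩ := x
    rw [hχ]
    simp only [Matrix.SpecialLinearGroup.transvection_coe, Matrix.add_apply, Matrix.single_apply,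
      Matrix.one_apply]
    norm_num
    show q * ((a.toMul : ↥V) * (φ.symm b.toMul : ↥U)) * q⁻¹ =
      ((a.toMul : ↥V) : G) * ((φ.symm (k * a + b : A).toMul : ↥U) : G)
    rw [show (k * a + b : A).toMul = (k * a).toMul * b.toMul from rfl, hφadd, Subgroup.coe_mul,
      hqk a,
      show q * ((a.toMul : ↥V) * ((φ.symm b.toMul : ↥U) : G)) * q⁻¹ =
        (⁅q, ((a.toMul : ↥V) : G)⁆ * (a.toMul : ↥V)) * (q * (φ.symm b.toMul : ↥U) * q⁻¹) by
          simp only [commutatorElement_def]; group,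
      mul_inv_eq_of_eq_mul (pOf_commute hqP (φ.symm b.toMul).2),
      pOf_commute (hU.le (commutator_mem_right hV hU hqP a.toMul.2)) a.toMul.2, mul_assoc]
  -- values of lower transvections
  have hlowval : ∀ (q : G) (y : ↥Y), (∀ v ∈ V, ∀ u ∈ U, ⁅q, v⁆ = u → ⁅(y : G), u⁆ = v) →
      q ∈ pOf U → (y : G) ≠ 1 → ∀ a : A,
      ((φ.symm ((Additive.ofMul (ψ y) : A)⁻¹ * a).toMul : ↥U) : G) = ⁅q, ((a.toMul : ↥V) : G)⁆ := by
    intro q y hval hq hy1 a
    set k : A := Additive.ofMul (ψ y) with hk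
    have hk0 : k ≠ 0 := by
      intro h0
      have : ψ y = ψ 1 := by
        refine Eq.trans (show ψ y = 1 from h0) (Subtype.ext ?_)
        show (1 : G) = ⁅w₀, ((1 : ↥Y) : G)⁆
        rw [OneMemClass.coe_one, commutatorElement_one_right]
      exact hy1 (by rw [ψ.injective this]; rfl)
    have hc := commutator_mem_right hV hU hq a.toMul.2
    set b : A := Additive.ofMul (φ ⟨_, hc⟩) with hb
    have hkb : k * b = a := by
      rw [mul_comm, hmul]
      refine congrArg Additive.ofMul (Subtype.ext ?_)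
      show ⁅((φ.symm (φ ⟨_, hc⟩) : ↥U) : G), ((ψ.symm (ψ y) : ↥Y) : G)⁆ = _
      rw [φ.symm_apply_apply, ψ.symm_apply_apply,
        commutator_symm hV (hU.le hc) (hY.le y.2)]
      exact hval _ a.toMul.2 _ hc rfl
    rw [show k⁻¹ * a = b by rw [← hkb, inv_mul_cancel_left₀ hk0]]
    show ((φ.symm (φ ⟨_, hc⟩) : ↥U) : G) = _
    rw [φ.symm_apply_apply]
  have hrange : ρ.range = χ.range := by
    refine le_antisymm ?_ ?_
    · have hle : H ≤ (χ.range.comap ρ).map H.subtype := by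
        refine sup_le (fun p hp => ?_) fun q hq => ?_
        · obtain ⟨y, hy, hpy⟩ := hpair.exists_same_action hV hp
          exact ⟨⟨p, mem_sup_left hp⟩, ⟨_, (hup p (mem_sup_left hp) ⟨y, hy⟩ hp hpy).symm⟩, rfl⟩
        · refine ⟨⟨q, mem_sup_right hq⟩, ?_, rfl⟩
          rcases hpair.exists_upper hV hq with htriv | ⟨y, hy, hval⟩
          · refine ⟨_, (hlow q (mem_sup_right hq) 0 hq fun a => ?_).symm⟩
            rw [zero_mul, htriv _ a.toMul.2]
            exact congrArg Subtype.val (φ.symm_apply_eq.2 (Subtype.ext (by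
              show (1 : G) = ⁅((1 : ↥U) : G), y₀⁆
              rw [OneMemClass.coe_one, commutatorElement_one_left])) : φ.symm 1 = 1)
          · by_cases hy1 : y = 1
            · exfalso
              obtain ⟨v, hv, hv1⟩ : ∃ v ∈ V, v ≠ 1 :=
                ⟨_, commutator_mem hV (hU.le hw₀) (hY.le hy₀),
                  hpair.commutator_ne_one hV hw₀ hy₀ hw₀1 hy₀1⟩
              have := hval v hv _ (commutator_mem_right hV hU hq hv) rfl
              rw [hy1, commutatorElement_one_left] at this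
              exact hv1 this.symm
            · exact ⟨_, (hlow q (mem_sup_right hq) _ hq (hlowval q ⟨y, hy⟩ hval hq hy1)).symm⟩
      rintro _ ⟨h, rfl⟩
      obtain ⟨h', hh', hhe⟩ := hle h.2
      rwa [Subtype.ext hhe] at hh'
    · have htop : ρ.range.comap χ = ⊤ := by
        refine CfsgLib.Linear.sl_eq_top_of_transvections fun i j hij c => ?_
        fin_cases i <;> fin_cases j
        · exact absurd rfl hij
        · have hp := hY.le (ψ.symm c.toMul).2
          refine ⟨⟨_, mem_sup_left hp⟩, ?_⟩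
          rw [hup _ (mem_sup_left hp) (ψ.symm c.toMul) hp fun u _ => rfl, ψ.apply_symm_apply]
          rfl
        · rcases eq_or_ne c 0 with rfl | hc
          · refine ⟨1, ?_⟩
            rw [map_one, ← map_one χ]
            congr 1
            refine Subtype.ext ?_
            simp
          · set y : ↥Y := ψ.symm (c⁻¹).toMul with hy
            have hy1 : (y : G) ≠ 1 := (hne0 _ (inv_ne_zero hc)).2
            obtain ⟨q, hq, hql⟩ := hpair.exists_lower hV y.2 hy1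
            refine ⟨⟨q, mem_sup_right hq⟩, ?_⟩
            have hval : ∀ v ∈ V, ∀ u ∈ U, ⁅q, v⁆ = u → ⁅(y : G), u⁆ = v := by
              intro v hv u hu huv
              obtain ⟨u', hu', hyu'⟩ := (hpair.symm hV).exists_eq hV y.2 hy1 hv
              rw [← huv, hql v hv u' hu' hyu', hyu']
            have hk : ((Additive.ofMul (ψ y) : A))⁻¹ = c := by
              rw [hy, ψ.apply_symm_apply]
              exact inv_inv c
            rw [hlow q (mem_sup_right hq) c hq fun a => by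
              rw [← hk]; exact hlowval q y hval hq hy1 a]
        · exact absurd rfl hij
      rintro _ ⟨g, rfl⟩
      exact (htop.ge (mem_top g) : g ∈ ρ.range.comap χ)
  exact ⟨(QuotientGroup.quotientMulEquivOfEq hρker.symm).trans
    ((QuotientGroup.quotientKerEquivRange ρ).trans ((MulEquiv.subgroupCongr hrange).trans
      ((MonoidHom.ofInjective hχinj).symm.trans eSL)))⟩

end CfsgLib.TISpread
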