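import Cfsg.Prelude.Def_ClassificationK
import Cfsg.Agent.CharPLocal.Two
import Cfsg.Agent.OddOrder.BG1Stab

/-!
# TI elementary abelian subgroups `V` with a conjugate inside `O_2(N(V))`

`V` is an elementary abelian 2-subgroup, a maximal abelian normal subgroup of `M = N(V)`,
`C_M(O_2(M)) ≤ O_2(M)`, and `V` is a TI set. For a conjugate `U ≠ V` with `U ≤ P = C_{O_2(M)}(V)`:
`P` is of class 2 with `Φ(P) ≤ V = Z(P)`, `P` is transitive on the members of `W = V U` other than
`V`, some element of `G` interchanges `V` and `U`, and `P = O_2(M)`.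
-/

set_option autoImplicit false
set_option linter.unusedSectionVars false

open Subgroup Cfsg
open scoped commutatorElement

namespace CfsgLib.TISpread

variable {G : Type*} [Group G]

/-- The conjugate `x H x⁻¹`. -/
abbrev cj (x : G) (H : Subgroup G) : Subgroup G := H.map (MulAut.conj x).toMonoidHom

theorem mem_cj {x y : G} {H : Subgroup G} : y ∈ cj x H ↔ x⁻¹ * y * x ∈ H := by
  constructor
  · rintro ⟨h, hh, rfl⟩
    show x⁻¹ * (x * h * x⁻¹) * x ∈ H
    rwa [show x⁻¹ * (x * h * x⁻¹) * x = h by group]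
  · intro h
    exact ⟨_, h, show x * (x⁻¹ * y * x) * x⁻¹ = y by group⟩

theorem conj_mem_cj {x h : G} {H : Subgroup G} (hh : h ∈ H) : x * h * x⁻¹ ∈ cj x H := ⟨h, hh, rfl⟩

theorem cj_cj (x y : G) (H : Subgroup G) : cj x (cj y H) = cj (x * y) H := by
  ext z
  rw [mem_cj, mem_cj, mem_cj, mul_inv_rev]
  simp only [mul_assoc]

theorem cj_one (H : Subgroup G) : cj 1 H = H := by
  ext z
  rw [mem_cj]
  simp

theorem cj_inv_cj (x : G) (H : Subgroup G) : cj x⁻¹ (cj x H) = H := by
  rw [cj_cj, inv_mul_cancel, cj_one]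

theorem cj_cj_inv (x : G) (H : Subgroup G) : cj x (cj x⁻¹ H) = H := by
  rw [cj_cj, mul_inv_cancel, cj_one]

theorem cj_injective (x : G) : Function.Injective (cj x) := fun A B h => by
  rw [← cj_inv_cj x A, h, cj_inv_cj]

theorem cj_mono {x : G} {A B : Subgroup G} (h : A ≤ B) : cj x A ≤ cj x B := map_mono h

theorem card_cj (x : G) (H : Subgroup G) : Nat.card ↥(cj x H) = Nat.card ↥H :=
  card_map_of_injective (MulAut.conj x).injective

theorem cj_eq_of_mem_normalizer {x : G} {H : Subgroup G} (h : x ∈ normalizer (H : Set G)) :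
    cj x H = H := mem_normalizer_iff_map_conj_eq.1 h

theorem mem_normalizer_of_cj_eq {x : G} {H : Subgroup G} (h : cj x H = H) :
    x ∈ normalizer (H : Set G) := mem_normalizer_iff_map_conj_eq.2 h

theorem cj_normalizer (x : G) (H : Subgroup G) :
    cj x (normalizer (H : Set G)) = normalizer ((cj x H : Subgroup G) : Set G) :=
  map_equiv_normalizer_eq H (MulAut.conj x)

theorem cj_centralizer (x : G) (H : Subgroup G) :
    cj x (centralizer (H : Set G)) = centralizer ((cj x H : Subgroup G) : Set G) := by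
  ext y
  rw [mem_cj, mem_centralizer_iff, mem_centralizer_iff]
  constructor
  · intro h z hz
    have := h _ (mem_cj.1 hz)
    calc z * y = x * (x⁻¹ * z * x * (x⁻¹ * y * x)) * x⁻¹ := by group
      _ = x * (x⁻¹ * y * x * (x⁻¹ * z * x)) * x⁻¹ := by rw [this]
      _ = y * z := by group
  · intro h z hz
    have := h _ (conj_mem_cj (x := x) hz)
    calc z * (x⁻¹ * y * x) = x⁻¹ * (x * z * x⁻¹ * y) * x := by group
      _ = x⁻¹ * (y * (x * z * x⁻¹)) * x := by rw [this]
      _ = x⁻¹ * y * x * z := by group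

theorem commutator_cj (x a b : G) : x * ⁅a, b⁆ * x⁻¹ = ⁅x * a * x⁻¹, x * b * x⁻¹⁆ := by
  simp only [commutatorElement_def]; group

/-- `O_2(N(V))`. -/
def qOf (V : Subgroup G) : Subgroup G :=
  (pCore 2 ↥(normalizer (V : Set G))).map (normalizer (V : Set G)).subtype

/-- `C(V) ∩ O_2(N(V))`. -/
def pOf (V : Subgroup G) : Subgroup G := qOf V ⊓ centralizer (V : Set G)

theorem qOf_le (V : Subgroup G) : qOf V ≤ normalizer (V : Set G) := map_subtype_le _

theorem pOf_le_normalizer (V : Subgroup G) : pOf V ≤ normalizer (V : Set G) :=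
  inf_le_left.trans (qOf_le V)

theorem isPGroup_qOf (V : Subgroup G) : IsPGroup 2 ↥(qOf V) :=
  CfsgLib.LocalStructure.pCoreOf_isPGroup _

theorem isPGroup_pOf (V : Subgroup G) : IsPGroup 2 ↥(pOf V) :=
  (isPGroup_qOf V).to_le inf_le_left

theorem normalizer_le_normalizer_qOf (V : Subgroup G) :
    normalizer (V : Set G) ≤ normalizer ((qOf V : Subgroup G) : Set G) :=
  CfsgLib.LocalStructure.le_normalizer_pCoreOf _

theorem normalizer_le_normalizer_pOf (V : Subgroup G) :
    normalizer (V : Set G) ≤ normalizer ((pOf V : Subgroup G) : Set G) :=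
  (le_inf (normalizer_le_normalizer_qOf V)
    (CfsgLib.CharPLocal.normalizer_le_normalizer_centralizer V)).trans
    inf_normalizer_le_normalizer_inf

variable [Finite G]

theorem cj_qOf (x : G) (V : Subgroup G) : cj x (qOf V) = qOf (cj x V) := by
  have key : ∀ (y : G) (U : Subgroup G), cj y (qOf U) ≤ qOf (cj y U) := by
    intro y U
    refine CfsgLib.LocalStructure.le_pCoreOf ?_ ?_ ((isPGroup_qOf U).map _)
    · rw [← cj_normalizer]; exact cj_mono (qOf_le U)
    · rw [← cj_normalizer, ← cj_normalizer]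
      exact cj_mono (normalizer_le_normalizer_qOf U)
  refine le_antisymm (key x V) ?_
  have h := cj_mono (x := x) (key x⁻¹ (cj x V))
  rwa [cj_inv_cj, cj_cj_inv] at h

theorem cj_pOf (x : G) (V : Subgroup G) : cj x (pOf V) = pOf (cj x V) := by
  rw [pOf, pOf, ← cj_qOf, ← cj_centralizer]
  exact map_inf _ _ _ (MulAut.conj x).injective

/-- The standing hypotheses. -/
structure IsConfig (V : Subgroup G) : Prop where
  elem : IsElementaryAbelian 2 V
  fitting : ∀ c ∈ normalizer (V : Set G), (∀ q ∈ qOf V, c * q = q * c) → c ∈ qOf V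
  maxAb : ∀ A : Subgroup G, V ≤ A → A ≤ normalizer (V : Set G) → IsMulCommutative ↥A →
    (∀ m ∈ normalizer (V : Set G), ∀ a ∈ A, m * a * m⁻¹ ∈ A) → A = V
  ti : ∀ x : G, cj x V = V ∨ cj x V ⊓ V = ⊥

variable {V : Subgroup G}

omit [Finite G] in
theorem sq_eq_one {a : G} (hV : IsConfig V) {x : G} (ha : a ∈ cj x V) : a * a = 1 := by
  obtain ⟨v, hv, rfl⟩ := ha
  show x * v * x⁻¹ * (x * v * x⁻¹) = 1
  have := hV.elem.2 v hv
  rw [pow_two] at this
  calc x * v * x⁻¹ * (x * v * x⁻¹) = x * (v * v) * x⁻¹ := by group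
    _ = 1 := by rw [this]; group

omit [Finite G] in
theorem sq_eq_one' (hV : IsConfig V) {a : G} (ha : a ∈ V) : a * a = 1 := by
  have := hV.elem.2 a ha; rwa [pow_two] at this

omit [Finite G] in
theorem inv_eq_self' (hV : IsConfig V) {a : G} (ha : a ∈ V) : a⁻¹ = a :=
  inv_eq_of_mul_eq_one_right (sq_eq_one' hV ha)

omit [Finite G] in
theorem comm' (hV : IsConfig V) {a b : G} (ha : a ∈ V) (hb : b ∈ V) : a * b = b * a :=
  congrArg Subtype.val (hV.elem.1.is_comm.comm ⟨a, ha⟩ ⟨b, hb⟩)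

omit [Finite G] in
theorem eq_one_of_mem (hV : IsConfig V) {x y a : G} (hne : cj x V ≠ cj y V) (hx : a ∈ cj x V)
    (hy : a ∈ cj y V) : a = 1 := by
  rcases hV.ti (x⁻¹ * y) with h | h
  · refine absurd ?_ hne
    rw [← cj_cj] at h
    have := congrArg (cj x) h
    rw [cj_cj_inv] at this
    exact this.symm
  · have h1 : x⁻¹ * a * x ∈ cj (x⁻¹ * y) V ⊓ V := by
      refine mem_inf.2 ⟨?_, mem_cj.1 hx⟩
      rw [← cj_cj]
      exact ⟨a, hy, by simp⟩
    rw [h, mem_bot] at h1
    calc a = x * (x⁻¹ * a * x) * x⁻¹ := by group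
      _ = 1 := by rw [h1]; group

omit [Finite G] in
theorem eq_one_of_mem_self (hV : IsConfig V) {x a : G} (hne : cj x V ≠ V) (hx : a ∈ cj x V)
    (hy : a ∈ V) : a = 1 :=
  eq_one_of_mem hV (y := 1) (by rwa [cj_one]) hx (by rwa [cj_one])

omit [Finite G] in
/-- The centralizer of a nontrivial element of a conjugate normalizes that conjugate. -/
theorem mem_normalizer_of_commute (hV : IsConfig V) {x w g : G} (hw : w ∈ cj x V) (hw1 : w ≠ 1)
    (hg : g * w = w * g) : g ∈ normalizer ((cj x V : Subgroup G) : Set G) := by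
  refine mem_normalizer_of_cj_eq (by_contra fun hne => hw1 ?_)
  rw [cj_cj] at hne
  refine eq_one_of_mem hV hne ?_ hw
  rw [← cj_cj]
  exact ⟨w, hw, show g * w * g⁻¹ = w by rw [hg]; group⟩

omit [Finite G] in
theorem mem_normalizer_of_commute' (hV : IsConfig V) {w g : G} (hw : w ∈ V) (hw1 : w ≠ 1)
    (hg : g * w = w * g) : g ∈ normalizer (V : Set G) := by
  have := mem_normalizer_of_commute hV (x := 1) (by rwa [cj_one]) hw1 hg
  rwa [cj_one] at this

/-- A conjugate of `V` normalizing `V` centralizes it. -/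
theorem commute_of_normalizes (hV : IsConfig V) {x : G} (hne : cj x V ≠ V)
    (hle : cj x V ≤ normalizer (V : Set G)) :
    ∀ v ∈ V, ∀ u ∈ cj x V, v * u = u * v := by
  set U := cj x V
  set X := V ⊓ normalizer (U : Set G) with hX
  have hXU : ∀ a ∈ X, ∀ u ∈ U, a * u = u * a := by
    intro a ha u hu
    obtain ⟨haV, haU⟩ := mem_inf.1 ha
    have h1 : ⁅a, u⁆ ∈ U := mul_mem ((mem_normalizer_iff.1 haU u).1 hu) (inv_mem hu)
    have h2 : ⁅a, u⁆ ∈ V := by
      rw [show ⁅a, u⁆ = a * (u * a⁻¹ * u⁻¹) by simp only [commutatorElement_def]; group]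
      exact mul_mem haV ((mem_normalizer_iff.1 (hle hu) _).1 (inv_mem haV))
    exact commutatorElement_eq_one_iff_mul_comm.1 (eq_one_of_mem_self hV hne h1 h2)
  suffices hall : V ≤ X from fun v hv => hXU v (hall hv)
  intro v hv
  by_contra hvX
  have hmem : ∀ u ∈ U, v * (u * v * u⁻¹) ∈ X := by
    intro u hu
    have h1 : u * v * u⁻¹ ∈ V := (mem_normalizer_iff.1 (hle hu) v).1 hv
    by_cases hu1 : u = 1
    · rw [hu1, one_mul, inv_one, mul_one, sq_eq_one' hV hv]; exact one_mem _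
    refine mem_inf.2 ⟨mul_mem hv h1, mem_normalizer_of_commute hV hu hu1 ?_⟩
    have hu2 := sq_eq_one hV hu
    have huinv : u⁻¹ = u := inv_eq_of_mul_eq_one_right hu2
    rw [huinv] at h1 ⊢
    calc v * (u * v * u) * u = v * (u * v) * (u * u) := by group
      _ = v * (u * v) := by rw [hu2, mul_one]
      _ = u * (u * v * u * v) * 1 := by
          rw [show u * (u * v * u * v) = (u * u) * v * u * v by group, hu2, one_mul, mul_one]
          group
      _ = u * (v * (u * v * u)) := by rw [mul_one, comm' hV h1 hv]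
  have hinj : Function.Injective (fun u : ↥U => (⟨v * ((u : G) * v * (u : G)⁻¹), hmem u u.2⟩ : ↥X)) := by
    intro a b hab
    have h1 : (a : G) * v * (a : G)⁻¹ = (b : G) * v * (b : G)⁻¹ :=
      mul_left_cancel (congrArg Subtype.val hab)
    have h2 : v * ((b : G)⁻¹ * a) = (b : G)⁻¹ * a * v := by
      calc v * ((b : G)⁻¹ * a) = (b : G)⁻¹ * ((b : G) * v * (b : G)⁻¹) * a := by group
        _ = (b : G)⁻¹ * ((a : G) * v * (a : G)⁻¹) * a := by rw [h1]
        _ = (b : G)⁻¹ * a * v := by group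
    by_contra hne'
    refine hvX (mem_inf.2 ⟨hv, mem_normalizer_of_commute hV (mul_mem (inv_mem b.2) a.2) ?_ h2⟩)
    exact fun h => hne' (Subtype.ext (inv_mul_eq_one.1 h).symm)
  have hcard := Nat.card_le_card_of_injective _ hinj
  rw [card_cj] at hcard
  exact hvX ((eq_of_le_of_card_ge inf_le_left hcard).ge hv)

theorem le_qOf (hV : IsConfig V) : V ≤ qOf V :=
  CfsgLib.LocalStructure.le_pCoreOf le_normalizer le_rfl fun v =>
    ⟨1, Subtype.ext (by rw [pow_one]; exact hV.elem.2 v v.2)⟩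

theorem le_pOf (hV : IsConfig V) : V ≤ pOf V :=
  le_inf (le_qOf hV) fun v hv => mem_centralizer_iff.2 fun w hw => comm' hV hw hv

theorem pOf_commute {p v : G} (hp : p ∈ pOf V) (hv : v ∈ V) : p * v = v * p :=
  (mem_centralizer_iff.1 (mem_inf.1 hp).2 v hv).symm

theorem conj_mem_pOf {m p : G} (hm : m ∈ normalizer (V : Set G)) (hp : p ∈ pOf V) :
    m * p * m⁻¹ ∈ pOf V :=
  (mem_normalizer_iff.1 (normalizer_le_normalizer_pOf V hm) p).1 hp

/-- An element of `C_M(V)` acting trivially on `P / V` lies in `P`. -/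
theorem mem_pOf_of_stab (hV : IsConfig V) {c : G} (hcM : c ∈ normalizer (V : Set G))
    (hcV : c ∈ centralizer (V : Set G)) (hc : ∀ p ∈ pOf V, ⁅c, p⁆ ∈ V) : c ∈ pOf V := by
  have : Fact (Nat.Prime 2) := ⟨Nat.prime_two⟩
  let Y : Subgroup G :=
    { carrier := {y | y ∈ normalizer (V : Set G) ∧ y ∈ centralizer (V : Set G) ∧
        ∀ p ∈ pOf V, ⁅y, p⁆ ∈ V}
      one_mem' := ⟨one_mem _, one_mem _, fun p _ => by rw [commutatorElement_one_left]; exact one_mem V⟩
      mul_mem' := fun {a b} ⟨ha, ha', hap⟩ ⟨hb, hb', hbp⟩ => ⟨mul_mem ha hb, mul_mem ha' hb',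
        fun p hp => by
          rw [show ⁅a * b, p⁆ = a * ⁅b, p⁆ * a⁻¹ * ⁅a, p⁆ by
            simp only [commutatorElement_def]; group]
          exact mul_mem ((mem_normalizer_iff.1 ha _).1 (hbp p hp)) (hap p hp)⟩
      inv_mem' := fun {a} ⟨ha, ha', hap⟩ => ⟨inv_mem ha, inv_mem ha', fun p hp => by
        rw [show ⁅a⁻¹, p⁆ = a⁻¹ * ⁅a, p⁆⁻¹ * a⁻¹⁻¹ by simp only [commutatorElement_def]; group]
        exact (mem_normalizer_iff.1 (inv_mem ha) _).1 (inv_mem (hap p hp))⟩ }
  have hYM : Y ≤ normalizer (V : Set G) := fun y hy => hy.1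
  have hnorm : normalizer (V : Set G) ≤ normalizer (Y : Set G) := by
    have key : ∀ m ∈ normalizer (V : Set G), ∀ y ∈ Y, m * y * m⁻¹ ∈ Y := by
      rintro m hm y ⟨hy, hy', hyp⟩
      refine ⟨mul_mem (mul_mem hm hy) (inv_mem hm), (mem_normalizer_iff.1
        (CfsgLib.CharPLocal.normalizer_le_normalizer_centralizer V hm) y).1 hy', fun p hp => ?_⟩
      have h1 : m⁻¹ * p * m⁻¹⁻¹ ∈ pOf V := conj_mem_pOf (inv_mem hm) hp
      have h2 := (mem_normalizer_iff.1 hm _).1 (hyp _ h1)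
      rw [commutator_cj, show m * (m⁻¹ * p * m⁻¹⁻¹) * m⁻¹ = p by group] at h2
      exact h2
    intro m hm
    rw [mem_normalizer_iff]
    refine fun y => ⟨key m hm y, fun h => ?_⟩
    simpa [mul_assoc] using key m⁻¹ (inv_mem hm) _ h
  have hY2 : IsPGroup 2 ↥Y := by
    refine CfsgLib.LocalStructure.isPGroup_of_coprime_eq_one fun y hy hco => ?_
    obtain ⟨hyM, hyV, hyp⟩ := hy
    have hcopH : ∀ H : Subgroup G, IsPGroup 2 ↥H → (orderOf y).Coprime (Nat.card ↥H) := by
      intro H hH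
      obtain ⟨n, hn⟩ := IsPGroup.iff_card.1 hH
      rw [hn]; exact hco.pow_right n
    have hVp : IsPGroup 2 ↥V := (isPGroup_qOf V).to_le (le_qOf hV)
    have hP : ∀ p ∈ pOf V, y * p = p * y := fun p hp =>
      (CfsgLib.OddOrder.Stab.commute_of_stab_mem
        (mem_centralizer_iff.1 hyV _ (hyp p hp)).symm (hyp p hp) (hcopH V hVp)).eq
    have hQ : ∀ q ∈ qOf V, y * q = q * y := fun q hq => by
      have hqn : q * y⁻¹ * q⁻¹ ∈ centralizer (V : Set G) := (mem_normalizer_iff.1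
        (CfsgLib.CharPLocal.normalizer_le_normalizer_centralizer V (qOf_le V hq)) _).1 (inv_mem hyV)
      have h1 : ⁅y, q⁆ ∈ pOf V := by
        refine mem_inf.2 ⟨?_, ?_⟩
        · rw [commutatorElement_def]
          exact mul_mem ((mem_normalizer_iff.1 (normalizer_le_normalizer_qOf V hyM) q).1 hq)
            (inv_mem hq)
        · rw [show ⁅y, q⁆ = y * (q * y⁻¹ * q⁻¹) by simp only [commutatorElement_def]; group]
          exact mul_mem hyV hqn
      exact (CfsgLib.OddOrder.Stab.commute_of_stab_mem (hP _ h1) h1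
        (hcopH _ (isPGroup_pOf V))).eq
    exact CfsgLib.LocalStructure.eq_one_of_coprime_of_mem (isPGroup_qOf V) (hV.fitting y hyM hQ) hco
  exact mem_inf.2 ⟨CfsgLib.LocalStructure.le_pCoreOf hYM hnorm hY2
    (show c ∈ Y from ⟨hcM, hcV, hc⟩), hcV⟩

omit [Finite G] in
theorem conj_mem_centralizer_pOf {V : Subgroup G} {B : Subgroup G}
    (hB : normalizer (V : Set G) ≤ normalizer (B : Set G)) {m : G}
    (hm : m ∈ normalizer (V : Set G)) {a : G} (ha : a ∈ centralizer (B : Set G)) :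
    m * a * m⁻¹ ∈ centralizer (B : Set G) :=
  (mem_normalizer_iff.1 ((hB.trans (CfsgLib.CharPLocal.normalizer_le_normalizer_centralizer B)) hm) a).1 ha

/-- `Z(P) = V`. -/
theorem mem_of_central (hV : IsConfig V) {c : G} (hc : c ∈ pOf V)
    (hcen : ∀ p ∈ pOf V, c * p = p * c) : c ∈ V := by
  have key := hV.maxAb (pOf V ⊓ centralizer (pOf V : Set G))
    (le_inf (le_pOf hV) fun v hv => mem_centralizer_iff.2 fun p hp => pOf_commute hp hv)
    (inf_le_left.trans (pOf_le_normalizer V))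
    ⟨⟨fun a b => Subtype.ext (mem_centralizer_iff.1 (mem_inf.1 b.2).2 a (mem_inf.1 a.2).1)⟩⟩
    (fun m hm a ha => mem_inf.2 ⟨conj_mem_pOf hm (mem_inf.1 ha).1,
      conj_mem_centralizer_pOf (normalizer_le_normalizer_pOf V) hm (mem_inf.1 ha).2⟩)
  exact key.le (mem_inf.2 ⟨hc, mem_centralizer_iff.2 fun p hp => (hcen p hp).symm⟩)

/-- `P / V` is elementary abelian. -/
theorem pOf_special (hV : IsConfig V) :
    (∀ p ∈ pOf V, p * p ∈ V) ∧ ∀ a ∈ pOf V, ∀ b ∈ pOf V, ⁅a, b⁆ ∈ V := by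
  have : Fact (Nat.Prime 2) := ⟨Nat.prime_two⟩
  set P := pOf V with hP
  have hVc : ∀ p ∈ P, ∀ v ∈ V, p * v * p⁻¹ = v := fun p hp v hv =>
    mul_inv_eq_of_eq_mul (pOf_commute hp hv)
  let B : Subgroup G :=
    { carrier := {b | b ∈ P ∧ b * b ∈ V ∧ ∀ p ∈ P, ⁅b, p⁆ ∈ V}
      one_mem' := ⟨one_mem _, by rw [mul_one]; exact one_mem _,
        fun p _ => by rw [commutatorElement_one_left]; exact one_mem V⟩
      mul_mem' := fun {a b} ⟨ha, ha2, hap⟩ ⟨hb, hb2, hbp⟩ => ⟨mul_mem ha hb, by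
          rw [show a * b * (a * b) = a * (⁅b, a⁆ * (a * (b * b) * a⁻¹)) * a⁻¹ * (a * a) by
            simp only [commutatorElement_def]; group]
          refine mul_mem ?_ ha2
          rw [hVc a ha _ (mul_mem (hbp a ha) (by rw [hVc a ha _ hb2]; exact hb2))]
          exact mul_mem (hbp a ha) (by rw [hVc a ha _ hb2]; exact hb2),
        fun p hp => by
          rw [show ⁅a * b, p⁆ = a * ⁅b, p⁆ * a⁻¹ * ⁅a, p⁆ by
            simp only [commutatorElement_def]; group, hVc a ha _ (hbp p hp)]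
          exact mul_mem (hbp p hp) (hap p hp)⟩
      inv_mem' := fun {a} ⟨ha, ha2, hap⟩ => ⟨inv_mem ha, by rw [← mul_inv_rev]; exact inv_mem ha2,
        fun p hp => by
          rw [show ⁅a⁻¹, p⁆ = a⁻¹ * ⁅a, p⁆⁻¹ * a⁻¹⁻¹ by simp only [commutatorElement_def]; group,
            hVc _ (inv_mem ha) _ (inv_mem (hap p hp))]
          exact inv_mem (hap p hp)⟩ }
  have hBP : B ≤ P := fun b hb => hb.1
  have hBn : normalizer (V : Set G) ≤ normalizer (B : Set G) := by
    have key : ∀ m ∈ normalizer (V : Set G), ∀ b ∈ B, m * b * m⁻¹ ∈ B := by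
      rintro m hm b ⟨hb, hb2, hbp⟩
      refine ⟨conj_mem_pOf hm hb, ?_, fun p hp => ?_⟩
      · rw [show m * b * m⁻¹ * (m * b * m⁻¹) = m * (b * b) * m⁻¹ by group]
        exact (mem_normalizer_iff.1 hm _).1 hb2
      · have h1 : m⁻¹ * p * m⁻¹⁻¹ ∈ P := conj_mem_pOf (inv_mem hm) hp
        have h2 := (mem_normalizer_iff.1 hm _).1 (hbp _ h1)
        rw [commutator_cj, show m * (m⁻¹ * p * m⁻¹⁻¹) * m⁻¹ = p by group] at h2
        exact h2
    intro m hm
    rw [mem_normalizer_iff]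
    refine fun y => ⟨key m hm y, fun h => ?_⟩
    simpa [mul_assoc] using key m⁻¹ (inv_mem hm) _ h
  have hVB : V ≤ B := fun v hv => ⟨le_pOf hV hv, by rw [sq_eq_one' hV hv]; exact one_mem _,
    fun p hp => by
      rw [commutatorElement_eq_one_iff_mul_comm.2 (pOf_commute hp hv).symm]; exact one_mem _⟩
  have hBB : B ⊓ centralizer (B : Set G) = V := hV.maxAb _
    (le_inf hVB fun v hv => mem_centralizer_iff.2 fun b hb => pOf_commute (hBP hb) hv)
    ((inf_le_left.trans hBP).trans (pOf_le_normalizer V))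
    ⟨⟨fun a b => Subtype.ext (mem_centralizer_iff.1 (mem_inf.1 b.2).2 a (mem_inf.1 a.2).1)⟩⟩
    fun m hm a ha => mem_inf.2 ⟨(mem_normalizer_iff.1 (hBn hm) a).1 (mem_inf.1 ha).1,
      conj_mem_centralizer_pOf hBn hm (mem_inf.1 ha).2⟩
  -- `C_P(B) = V`
  have hCB : ∀ c ∈ P, (∀ b ∈ B, c * b = b * c) → c ∈ V := by
    intro c hc hcen
    by_contra hcV
    set Z := P ⊓ centralizer (B : Set G) with hZ
    set Vp := V.subgroupOf P
    have hVn : Vp.Normal := normal_subgroupOf_of_le_normalizer (pOf_le_normalizer V)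
    set π := QuotientGroup.mk' Vp
    set Zb := (Z.subgroupOf P).map π with hZb
    have hcZ : c ∈ Z := mem_inf.2 ⟨hc, mem_centralizer_iff.2 fun b hb => (hcen b hb).symm⟩
    have hne : Zb ≠ ⊥ := by
      intro h
      rw [hZb, Subgroup.map_eq_bot_iff, QuotientGroup.ker_mk'] at h
      exact hcV (h (show (⟨c, hc⟩ : ↥P) ∈ Z.subgroupOf P from hcZ))
    have hZn : (Z.subgroupOf P).Normal :=
      ⟨fun a ha g => mem_inf.2 ⟨(g * a * g⁻¹).2,
        conj_mem_centralizer_pOf hBn (pOf_le_normalizer V g.2) (mem_inf.1 ha).2⟩⟩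
    have hZbn : Zb.Normal := Subgroup.Normal.map hZn π (QuotientGroup.mk'_surjective _)
    have hq : IsPGroup 2 (↥P ⧸ Vp) := (isPGroup_pOf V).to_quotient _
    obtain ⟨w, hwZ, hw1, hwc⟩ := CfsgLib.CharPLocal.exists_ne_one_central_of_normal
      (T := (⊤ : Subgroup (↥P ⧸ Vp))) (U := Zb) (hq.to_subgroup _) le_top
      (by rw [normalizer_eq_top_iff.2 hZbn]) hne
    obtain ⟨k, hk⟩ := IsPGroup.iff_orderOf.1 hq w
    obtain ⟨j, rfl⟩ : ∃ j, k = j + 1 := by
      refine Nat.exists_eq_succ_of_ne_zero fun h0 => hw1 ?_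
      rwa [h0, pow_zero, orderOf_eq_one_iff] at hk
    set w2 := w ^ (2 ^ j) with hw2
    have hw2Z : w2 ∈ Zb := pow_mem hwZ _
    have hw2sq : w2 * w2 = 1 := by
      rw [hw2, ← pow_add, ← two_mul, ← pow_succ', ← hk, pow_orderOf_eq_one]
    have hw21 : w2 ≠ 1 := pow_ne_one_of_lt_orderOf (by positivity)
      (by rw [hk, pow_succ]; have := Nat.two_pow_pos j; omega)
    obtain ⟨b, hb, hbw⟩ := hw2Z
    have hbB : (b : G) ∈ B := by
      refine ⟨b.2, ?_, fun p hp => ?_⟩
      · have : π (b * b) = 1 := by rw [map_mul, hbw, hw2sq]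
        exact mem_subgroupOf.1 ((QuotientGroup.eq_one_iff (N := Vp) (b * b)).1 this)
      · have : π ⁅b, ⟨p, hp⟩⁆ = 1 := by
          rw [map_commutatorElement, hbw, commutatorElement_eq_one_iff_mul_comm]
          exact ((show Commute (π ⟨p, hp⟩) w from hwc _ (mem_top _)).pow_right _).eq.symm
        exact mem_subgroupOf.1 ((QuotientGroup.eq_one_iff (N := Vp) ⁅b, ⟨p, hp⟩⁆).1 this)
    refine hw21 ?_
    rw [← hbw]
    exact (QuotientGroup.eq_one_iff _).2 (hBB.le (mem_inf.2 ⟨hbB, (mem_inf.1 hb).2⟩))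
  have hlin : ∀ b ∈ B, ∀ p ∈ P, ∀ q ∈ P, ⁅b, p * q⁆ = ⁅b, p⁆ * ⁅b, q⁆ := by
    intro b hb p hp q hq
    rw [show ⁅b, p * q⁆ = ⁅b, p⁆ * (p * ⁅b, q⁆ * p⁻¹) by simp only [commutatorElement_def]; group,
      hVc p hp _ (hb.2.2 q hq)]
  have hfromB : ∀ c ∈ P, (∀ b ∈ B, ⁅b, c⁆ = 1) → c ∈ V := fun c hc h =>
    hCB c hc fun b hb => (commutatorElement_eq_one_iff_mul_comm.1 (h b hb)).symm
  refine ⟨fun p hp => hfromB _ (mul_mem hp hp) fun b hb => ?_, fun a ha c hc => ?_⟩
  · rw [hlin b hb p hp p hp, sq_eq_one' hV (hb.2.2 p hp)]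
  · refine hfromB _ (mul_mem (mul_mem (mul_mem ha hc) (inv_mem ha)) (inv_mem hc)) fun b hb => ?_
    have e := hlin b hb
    have hinv : ∀ p ∈ P, ⁅b, p⁻¹⁆ = ⁅b, p⁆⁻¹ := fun p hp => by
      refine eq_inv_of_mul_eq_one_left ?_
      rw [← e p⁻¹ (inv_mem hp) p hp, inv_mul_cancel, commutatorElement_one_right]
    rw [commutatorElement_def a c, e _ (mul_mem (mul_mem ha hc) (inv_mem ha)) _ (inv_mem hc),
      e _ (mul_mem ha hc) _ (inv_mem ha), e a ha c hc, hinv a ha, hinv c hc,
      comm' hV (hb.2.2 a ha) (hb.2.2 c hc), mul_assoc ⁅b, c⁆, mul_inv_cancel, mul_one,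
      mul_inv_cancel]

theorem commutator_mem (hV : IsConfig V) {a b : G} (ha : a ∈ pOf V) (hb : b ∈ pOf V) :
    ⁅a, b⁆ ∈ V := (pOf_special hV).2 a ha b hb

theorem commutator_mul_left (hV : IsConfig V) {a b c : G} (ha : a ∈ pOf V) (hb : b ∈ pOf V)
    (hc : c ∈ pOf V) : ⁅a * b, c⁆ = ⁅a, c⁆ * ⁅b, c⁆ := by
  rw [show ⁅a * b, c⁆ = a * ⁅b, c⁆ * a⁻¹ * ⁅a, c⁆ by simp only [commutatorElement_def]; group,
    mul_inv_eq_of_eq_mul (pOf_commute ha (commutator_mem hV hb hc))]
  exact comm' hV (commutator_mem hV hb hc) (commutator_mem hV ha hc)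

theorem commutator_symm (hV : IsConfig V) {a b : G} (ha : a ∈ pOf V) (hb : b ∈ pOf V) :
    ⁅a, b⁆ = ⁅b, a⁆ := by
  rw [← commutatorElement_inv b a, inv_eq_self' hV (commutator_mem hV hb ha)]

theorem commutator_mul_right (hV : IsConfig V) {a b c : G} (ha : a ∈ pOf V) (hb : b ∈ pOf V)
    (hc : c ∈ pOf V) : ⁅a, b * c⁆ = ⁅a, b⁆ * ⁅a, c⁆ := by
  rw [commutator_symm hV ha (mul_mem hb hc), commutator_mul_left hV hb hc ha,
    commutator_symm hV hb ha, commutator_symm hV hc ha]

/-- A member: a conjugate of `V`, other than `V`, inside `P`. -/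
structure IsMember (V U : Subgroup G) : Prop where
  conj : ∃ x : G, U = cj x V
  ne : U ≠ V
  le : U ≤ pOf V

omit [Finite G] in
theorem IsMember.disjoint {U : Subgroup G} (hU : IsMember V U) (hV : IsConfig V) {a : G}
    (ha : a ∈ U) (haV : a ∈ V) : a = 1 := by
  obtain ⟨x, rfl⟩ := hU.conj
  exact eq_one_of_mem_self hV hU.ne ha haV

omit [Finite G] in
theorem IsMember.commute {U : Subgroup G} (hU : IsMember V U) (hV : IsConfig V) {a b : G}
    (ha : a ∈ U) (hb : b ∈ U) : a * b = b * a := by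
  obtain ⟨x, rfl⟩ := hU.conj
  obtain ⟨a', ha', rfl⟩ := ha
  obtain ⟨b', hb', rfl⟩ := hb
  rw [← map_mul, ← map_mul, comm' hV ha' hb']

omit [Finite G] in
theorem IsMember.sq {U : Subgroup G} (hU : IsMember V U) (hV : IsConfig V) {a : G}
    (ha : a ∈ U) : a * a = 1 := by
  obtain ⟨x, rfl⟩ := hU.conj
  exact sq_eq_one hV ha

omit [Finite G] in
theorem IsMember.card {U : Subgroup G} (hU : IsMember V U) : Nat.card ↥U = Nat.card ↥V := by
  obtain ⟨x, rfl⟩ := hU.conj
  exact card_cj x V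

omit [Finite G] in
theorem IsMember.mem_normalizer {U : Subgroup G} (hU : IsMember V U) (hV : IsConfig V) {w g : G}
    (hw : w ∈ U) (hw1 : w ≠ 1) (hg : g * w = w * g) : g ∈ normalizer (U : Set G) := by
  obtain ⟨x, rfl⟩ := hU.conj
  exact mem_normalizer_of_commute hV hw hw1 hg

/-- An element of `P` centralizing one nontrivial element of a member centralizes it. -/
theorem IsMember.commute_all {U : Subgroup G} (hU : IsMember V U) (hV : IsConfig V) {p w : G}
    (hp : p ∈ pOf V) (hw : w ∈ U) (hw1 : w ≠ 1) (h : p * w = w * p) :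
    ∀ u ∈ U, p * u = u * p := by
  intro u hu
  have hn := hU.mem_normalizer hV hw hw1 h
  have h1 : ⁅p, u⁆ ∈ U := mul_mem ((Subgroup.mem_normalizer_iff.1 hn u).1 hu) (inv_mem hu)
  exact commutatorElement_eq_one_iff_mul_comm.1
    (hU.disjoint hV h1 (commutator_mem hV hp (hU.le hu)))

/-- Two members of which some elements do not commute. -/
structure IsPair (V U Y : Subgroup G) : Prop where
  left : IsMember V U
  right : IsMember V Y
  noncomm : ∃ u ∈ U, ∃ y ∈ Y, ⁅u, y⁆ ≠ 1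

theorem IsPair.symm (hV : IsConfig V) {U Y : Subgroup G} (h : IsPair V U Y) : IsPair V Y U := by
  obtain ⟨u, hu, y, hy, hne⟩ := h.noncomm
  exact ⟨h.right, h.left, y, hy, u, hu, by
    rwa [commutator_symm hV (h.right.le hy) (h.left.le hu)]⟩

theorem exists_pair (hV : IsConfig V) {U : Subgroup G} (hU : IsMember V U) :
    ∃ Y, IsPair V U Y := by
  by_contra hcon
  push Not at hcon
  set M := normalizer (V : Set G)
  have hmem : ∀ m ∈ M, IsMember V (cj m U) := by
    intro m hm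
    obtain ⟨x, hx⟩ := hU.conj
    refine ⟨⟨m * x, by rw [hx, cj_cj]⟩, fun h => hU.ne ?_, ?_⟩
    · exact cj_injective m (h.trans (cj_eq_of_mem_normalizer hm).symm)
    · rintro _ ⟨u, hu, rfl⟩
      exact conj_mem_pOf hm (hU.le hu)
  set s : Set G := (V : Set G) ∪ {a | ∃ m ∈ M, ∃ u ∈ U, a = m * u * m⁻¹}
  have hsP : s ⊆ pOf V := by
    rintro a (ha | ⟨m, hm, u, hu, rfl⟩)
    · exact le_pOf hV ha
    · exact conj_mem_pOf hm (hU.le hu)
  have hcomm : ∀ a ∈ s, ∀ b ∈ s, a * b = b * a := by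
    rintro a (ha | ⟨m, hm, u, hu, rfl⟩) b hb
    · exact (pOf_commute (hsP hb) ha).symm
    rcases hb with hb | ⟨n, hn, w, hw, rfl⟩
    · exact pOf_commute (conj_mem_pOf hm (hU.le hu)) hb
    by_contra hne
    have hk : m⁻¹ * n ∈ M := mul_mem (inv_mem hm) hn
    refine hcon (cj (m⁻¹ * n) U) ⟨hU, hmem _ hk, u, hu, _, conj_mem_cj hw, fun h => hne ?_⟩
    have h' := congrArg (fun z => m * z * m⁻¹) h
    simp only [mul_one, mul_inv_cancel] at h'
    rw [commutator_cj, commutatorElement_eq_one_iff_mul_comm,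
      show m * (m⁻¹ * n * w * (m⁻¹ * n)⁻¹) * m⁻¹ = n * w * n⁻¹ by group] at h'
    exact h'
  have hAP : closure s ≤ pOf V := (closure_le _).2 hsP
  have hA := hV.maxAb (closure s) (fun v hv => subset_closure (Or.inl hv))
    (hAP.trans (pOf_le_normalizer V)) (Subgroup.isMulCommutative_closure hcomm)
    (fun m hm a ha => by
      induction ha using closure_induction with
      | mem a ha =>
        rcases ha with ha | ⟨n, hn, u, hu, rfl⟩
        · exact subset_closure (Or.inl ((mem_normalizer_iff.1 hm a).1 ha))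
        · exact subset_closure (Or.inr ⟨m * n, mul_mem hm hn, u, hu, by group⟩)
      | one => simp
      | mul a b _ _ iha ihb =>
        rw [show m * (a * b) * m⁻¹ = (m * a * m⁻¹) * (m * b * m⁻¹) by group]
        exact mul_mem iha ihb
      | inv a _ iha =>
        rw [show m * a⁻¹ * m⁻¹ = (m * a * m⁻¹)⁻¹ by group]
        exact inv_mem iha)
  have hUV : U ≤ V := fun u hu => hA.le (subset_closure (Or.inr ⟨1, one_mem _, u, hu, by group⟩))
  exact hU.ne (eq_of_le_of_card_ge hUV hU.card.ge)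

theorem IsPair.commutator_ne_one (hV : IsConfig V) {U Y : Subgroup G} (h : IsPair V U Y) {u y : G}
    (hu : u ∈ U) (hy : y ∈ Y) (hu1 : u ≠ 1) (hy1 : y ≠ 1) : ⁅u, y⁆ ≠ 1 := by
  intro hc
  obtain ⟨a, ha, b, hb, hne⟩ := h.noncomm
  have hc' := commutatorElement_eq_one_iff_mul_comm.1 hc
  -- `u` centralizes `Y`, so `Y` normalizes `U`
  have h1 := h.right.commute_all hV (h.left.le hu) hy hy1 hc'
  have h2 : b * u = u * b := (h1 b hb).symm
  exact hne (commutatorElement_eq_one_iff_mul_comm.2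
    (h.left.commute_all hV (h.right.le hb) hu hu1 h2 a ha).symm)

theorem IsPair.exists_eq (hV : IsConfig V) {U Y : Subgroup G} (h : IsPair V U Y) {u v : G}
    (hu : u ∈ U) (hu1 : u ≠ 1) (hv : v ∈ V) : ∃ y ∈ Y, ⁅u, y⁆ = v := by
  let f : ↥Y → ↥V := fun y => ⟨⁅u, (y : G)⁆, commutator_mem hV (h.left.le hu) (h.right.le y.2)⟩
  have hinj : Function.Injective f := by
    intro a b hab
    have hab' : ⁅u, (a : G)⁆ = ⁅u, (b : G)⁆ := congrArg Subtype.val hab
    by_contra hne
    refine h.commutator_ne_one hV hu (mul_mem a.2 b.2) hu1 (fun h' => hne (Subtype.ext ?_)) ?_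
    · calc (a : G) = a * b * b := by rw [mul_assoc, h.right.sq hV b.2, mul_one]
        _ = b := by rw [h', one_mul]
    · rw [commutator_mul_right hV (h.left.le hu) (h.right.le a.2) (h.right.le b.2), hab',
        sq_eq_one' hV (commutator_mem hV (h.left.le hu) (h.right.le b.2))]
  obtain ⟨y, hy⟩ := (Function.Injective.bijective_of_nat_card_le hinj h.right.card.ge).2 ⟨v, hv⟩
  exact ⟨y, y.2, congrArg Subtype.val hy⟩

omit [Finite G] in
theorem IsMember.exists_ne_one {U : Subgroup G} (hU : IsMember V U) : ∃ u ∈ U, u ≠ 1 := by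
  by_contra hcon
  push Not at hcon
  have hbot : U = ⊥ := eq_bot_iff.2 fun u hu => mem_bot.2 (hcon u hu)
  refine hU.ne ?_
  obtain ⟨x, hx⟩ := hU.conj
  rw [hbot] at hx ⊢
  have := congrArg (cj x⁻¹) hx
  rw [cj_inv_cj] at this
  rw [← this]
  exact (Subgroup.map_bot _).symm

/-- `P = C_P(U) Y`. -/
theorem IsPair.exists_decomp (hV : IsConfig V) {U Y : Subgroup G} (h : IsPair V U Y) {p : G}
    (hp : p ∈ pOf V) : ∃ y ∈ Y, ∀ u ∈ U, p * y * u = u * (p * y) := by
  obtain ⟨u₀, hu₀, hu₀1⟩ := h.left.exists_ne_one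
  obtain ⟨y, hy, hyu⟩ := h.exists_eq hV hu₀ hu₀1 (commutator_mem hV (h.left.le hu₀) hp)
  refine ⟨y, hy, h.left.commute_all hV (mul_mem hp (h.right.le hy)) hu₀ hu₀1
    (commutatorElement_eq_one_iff_mul_comm.1 ?_)⟩
  rw [commutator_mul_left hV hp (h.right.le hy) (h.left.le hu₀),
    commutator_symm hV hp (h.left.le hu₀), commutator_symm hV (h.right.le hy) (h.left.le hu₀), hyu,
    sq_eq_one' hV (commutator_mem hV (h.left.le hu₀) hp)]

theorem mem_sup_member (hV : IsConfig V) {U : Subgroup G} (hU : IsMember V U) {a : G}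
    (ha : a ∈ V ⊔ U) : ∃ v ∈ V, ∃ u ∈ U, a = v * u := by
  have hn : U ≤ normalizer (V : Set G) := hU.le.trans (pOf_le_normalizer V)
  rw [← SetLike.mem_coe, coe_mul_of_right_le_normalizer_left V U hn] at ha
  obtain ⟨v, hv, u, hu, rfl⟩ := ha
  exact ⟨v, hv, u, hu, rfl⟩

/-- An element of `P` centralizing `C_P(U)` lies in `V U`. -/
theorem mem_sup_of_centralizes (hV : IsConfig V) {U : Subgroup G} (hU : IsMember V U) {z : G}
    (hz : z ∈ pOf V) (hc : ∀ r ∈ pOf V, (∀ u ∈ U, r * u = u * r) → z * r = r * z) :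
    z ∈ V ⊔ U := by
  obtain ⟨Y, hpair⟩ := exists_pair hV hU
  obtain ⟨w, hw, hwY⟩ := (hpair.symm hV).exists_decomp hV hz
  have hzU : ∀ u ∈ U, z * u = u * z := fun u hu =>
    hc u (hU.le hu) fun v hv => hU.commute hV hu hv
  have hr : z * w ∈ V := mem_of_central hV (mul_mem hz (hU.le hw)) fun p hp => by
    obtain ⟨y, hy, hyU⟩ := hpair.exists_decomp hV hp
    have hy2 := hpair.right.sq hV hy
    have h1 : z * w * (p * y) = p * y * (z * w) := by
      rw [mul_assoc z w, ← hyU w hw, ← mul_assoc z, hc _ (mul_mem hp (hpair.right.le hy)) hyU,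
        mul_assoc]
    calc z * w * p = z * w * (p * y) * y := by rw [mul_assoc _ (p * y), mul_assoc p, hy2, mul_one]
      _ = p * y * (z * w * y) := by rw [h1, mul_assoc]
      _ = p * (y * y) * (z * w) := by rw [hwY y hy]; group
      _ = p * (z * w) := by rw [hy2, mul_one]
  have hw2 := hU.sq hV hw
  rw [show z = z * w * w by rw [mul_assoc, hw2, mul_one]]
  exact mul_mem (mem_sup_left hr) (mem_sup_right hw)

/-- The member of `V U` through an element outside `V`. -/
theorem exists_member_through (hV : IsConfig V) {U : Subgroup G} (hU : IsMember V U) {a : G}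
    (ha : a ∈ V ⊔ U) (haV : a ∉ V) : ∃ p ∈ pOf V, a ∈ cj p U := by
  obtain ⟨v, hv, u, hu, rfl⟩ := mem_sup_member hV hU ha
  have hu1 : u ≠ 1 := fun h => haV (by rw [h, mul_one]; exact hv)
  obtain ⟨Y, hpair⟩ := exists_pair hV hU
  obtain ⟨y, hy, hyu⟩ := hpair.exists_eq hV hu hu1 hv
  refine ⟨y, hpair.right.le hy, u, hu, ?_⟩
  show y * u * y⁻¹ = v * u
  rw [← hyu, commutator_symm hV (hU.le hu) (hpair.right.le hy), commutatorElement_def,
    inv_mul_cancel_right]

theorem cj_member_le (hV : IsConfig V) {U : Subgroup G} (hU : IsMember V U) {p : G}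
    (hp : p ∈ pOf V) : cj p U ≤ V ⊔ U := by
  rintro _ ⟨u, hu, rfl⟩
  show p * u * p⁻¹ ∈ V ⊔ U
  rw [show p * u * p⁻¹ = ⁅p, u⁆ * u by simp only [commutatorElement_def]; group]
  exact mul_mem (mem_sup_left (commutator_mem hV hp (hU.le hu))) (mem_sup_right hu)

/-- The conjugates of `V` in `V U` are `V` and the `P`-conjugates of `U`. -/
theorem eq_or_exists_cj (hV : IsConfig V) {U : Subgroup G} (hU : IsMember V U) {x : G}
    (hle : cj x V ≤ V ⊔ U) : cj x V = V ∨ ∃ p ∈ pOf V, cj x V = cj p U := by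
  refine or_iff_not_imp_left.2 fun hne => ?_
  by_cases hbot : cj x V ≤ V
  · exact absurd (eq_of_le_of_card_ge hbot (card_cj x V).ge) hne
  obtain ⟨a, ha, haV⟩ := SetLike.not_le_iff_exists.1 hbot
  obtain ⟨p, hp, hap⟩ := exists_member_through hV hU (hle ha) haV
  refine ⟨p, hp, by_contra fun hne' => ?_⟩
  obtain ⟨y, hy⟩ := hU.conj
  rw [hy, cj_cj] at hap hne'
  exact haV (by rw [eq_one_of_mem hV hne' ha hap]; exact one_mem V)

/-- Some element fixes `U` and moves `V` inside `V U`. -/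
theorem exists_mover (hV : IsConfig V) {U : Subgroup G} (hU : IsMember V U) :
    ∃ e ∈ normalizer (U : Set G), cj e V ≠ V ∧ cj e V ≤ V ⊔ U := by
  obtain ⟨x, hx⟩ := hU.conj
  have hPU : pOf U = cj x (pOf V) := by rw [hx, cj_pOf]
  have hVUc : ∀ v ∈ V, ∀ u ∈ U, v * u = u * v := fun v hv u hu => (pOf_commute (hU.le hu) hv).symm
  have hVNU : V ≤ normalizer (U : Set G) := fun v hv =>
    centralizer_le_normalizer _ (mem_centralizer_iff.2 fun u hu => (hVUc v hv u hu).symm)
  have hPUc : ∀ a ∈ pOf U, ∀ u ∈ U, a * u = u * a := fun a ha u hu => pOf_commute ha hu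
  have hcent : ∀ c ∈ pOf U, (∀ a ∈ pOf U, c * a = a * c) → c ∈ U := by
    intro c hc hcen
    rw [hPU] at hc hcen
    rw [hx]
    obtain ⟨c', hc', rfl⟩ := hc
    refine ⟨c', mem_of_central hV hc' fun p hp => ?_, rfl⟩
    have := hcen _ ⟨p, hp, rfl⟩
    rw [← map_mul, ← map_mul] at this
    exact (MulAut.conj x).injective this
  by_cases hY : ∃ y ∈ V, y ≠ 1 ∧ y ∈ pOf U
  · obtain ⟨y, hy, hy1, hyP⟩ := hY
    have hyU : y ∉ U := fun h => hy1 (hU.disjoint hV h hy)
    obtain ⟨e, he, hne⟩ : ∃ e ∈ pOf U, y * e ≠ e * y := by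
      by_contra h
      push Not at h
      exact hyU (hcent y hyP h)
    refine ⟨e, pOf_le_normalizer U he, ?_, ?_⟩
    all_goals
      have hw : ⁅e, y⁆ ∈ U := by
        rw [hx, hPU] at *
        obtain ⟨e', he', rfl⟩ := he
        obtain ⟨y', hy', hyy⟩ := hyP
        rw [← hyy]
        exact ⟨⁅e', y'⁆, commutator_mem hV he' hy', map_commutatorElement _ _ _⟩
      have hw1 : ⁅e, y⁆ ≠ 1 := fun h => hne (commutatorElement_eq_one_iff_mul_comm.1 h).symm
      have he_y : e * y * e⁻¹ = ⁅e, y⁆ * y := by simp only [commutatorElement_def]; group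
      have hey : e * y * e⁻¹ ∈ cj e V := conj_mem_cj hy
      have heyV : e * y * e⁻¹ ∉ V := fun h =>
        hw1 (hU.disjoint hV hw (by
          have := mul_mem h (inv_mem hy)
          rwa [he_y, mul_inv_cancel_right] at this))
    · exact fun h => heyV (h.le hey)
    · have hmem : e * y * e⁻¹ ∈ V ⊔ U := by
        rw [he_y]; exact mul_mem (mem_sup_right hw) (mem_sup_left hy)
      obtain ⟨p, hp, hyp⟩ := exists_member_through hV hU hmem heyV
      rw [hx, cj_cj] at hyp
      rcases eq_or_ne (cj e V) (cj (p * x) V) with h | h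
      · rw [h, ← cj_cj, ← hx]; exact cj_member_le hV hU hp
      · exact absurd (eq_one_of_mem hV h hey hyp) fun h1 => heyV (h1 ▸ one_mem V)
  · push Not at hY
    have hY' : ∀ y ∈ V, y ∈ pOf U → y = 1 := fun y hy hyP => by_contra fun h => hY y hy h hyP
    set M := normalizer (V : Set G)
    set K := pOf U ⊓ M with hK
    have hKV : ∀ k ∈ K, ∀ v ∈ V, k * v = v * k := by
      intro k hk v hv
      obtain ⟨hkP, hkM⟩ := mem_inf.1 hk
      refine commutatorElement_eq_one_iff_mul_comm.1 (hY' _ ?_ ?_)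
      · rw [commutatorElement_def]
        exact mul_mem ((mem_normalizer_iff.1 hkM v).1 hv) (inv_mem hv)
      · rw [show ⁅k, v⁆ = k * (v * k⁻¹ * v⁻¹) by simp only [commutatorElement_def]; group]
        exact mul_mem hkP ((mem_normalizer_iff.1
          (normalizer_le_normalizer_pOf U (hVNU hv)) _).1 (inv_mem hkP))
    have hPUM : ¬ pOf U ≤ M := by
      intro hle
      obtain ⟨v, hv, hv1⟩ : ∃ v ∈ V, v ≠ 1 := by
        by_contra hcon
        push Not at hcon
        obtain ⟨u, hu, hu1⟩ := hU.exists_ne_one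
        refine hu1 ?_
        rw [hx] at hu
        obtain ⟨v, hv, rfl⟩ := hu
        rw [hcon v hv, map_one]
      have hvU : v ∈ normalizer (U : Set G) := hVNU hv
      refine hv1 (hY' v hv ?_)
      rw [hPU]
      have hx1 : x⁻¹ * v * x ∈ pOf V := by
        refine mem_pOf_of_stab hV ?_ ?_ fun p hp => ?_
        · rw [hx, ← cj_normalizer] at hvU
          exact mem_cj.1 hvU
        · have : v ∈ centralizer (U : Set G) := mem_centralizer_iff.2 fun u hu => (hVUc v hv u hu).symm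
          rw [hx, ← cj_centralizer] at this
          exact mem_cj.1 this
        · have hpU : x * p * x⁻¹ ∈ pOf U := hPU ▸ conj_mem_cj hp
          have hc := hKV _ (mem_inf.2 ⟨hpU, hle hpU⟩) v hv
          rw [commutatorElement_eq_one_iff_mul_comm.2]
          · exact one_mem V
          calc x⁻¹ * v * x * p = x⁻¹ * (v * (x * p * x⁻¹)) * x := by group
            _ = x⁻¹ * (x * p * x⁻¹ * v) * x := by rw [hc]
            _ = p * (x⁻¹ * v * x) := by group
      exact mem_cj.2 hx1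
    set R := pOf V ⊓ centralizer (U : Set G) with hR
    have hRK : K ≤ normalizer (R : Set G) := by
      refine le_trans (le_inf ?_ ?_) inf_normalizer_le_normalizer_inf
      · exact fun k hk => normalizer_le_normalizer_pOf V (mem_inf.1 hk).2
      · exact fun k hk => CfsgLib.CharPLocal.normalizer_le_normalizer_centralizer U
          (pOf_le_normalizer U (mem_inf.1 hk).1)
    set T := R ⊔ K with hT
    have hTp : IsPGroup 2 ↥T := ((isPGroup_pOf V).to_le inf_le_left).to_sup_of_normal_left'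
      ((isPGroup_pOf U).to_le inf_le_left) hRK
    have hTM : T ≤ M := sup_le (inf_le_left.trans (pOf_le_normalizer V)) inf_le_right
    have hTU : T ≤ normalizer (U : Set G) :=
      sup_le (inf_le_right.trans (centralizer_le_normalizer _))
        (inf_le_left.trans (pOf_le_normalizer U))
    have hTV : T ≤ centralizer (V : Set G) := sup_le (inf_le_left.trans inf_le_right)
      fun k hk => mem_centralizer_iff.2 fun v hv => (hKV k hk v hv).symm
    set S := T ⊔ pOf U with hS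
    have hSp : IsPGroup 2 ↥S := hTp.to_sup_of_normal_right' (isPGroup_pOf U)
      (hTU.trans (normalizer_le_normalizer_pOf U))
    have hlt : T.subgroupOf S < ⊤ := by
      refine lt_top_iff_ne_top.2 fun h => hPUM fun a ha => ?_
      have : (⟨a, mem_sup_right ha⟩ : ↥S) ∈ T.subgroupOf S := h ▸ mem_top _
      exact hTM this
    have : Fact (Nat.Prime 2) := ⟨Nat.prime_two⟩
    have := hSp.isNilpotent
    have hnc := Group.normalizerCondition_of_isNilpotent (G := ↥S) (T.subgroupOf S) hlt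
    obtain ⟨g, hgN, hgT⟩ := SetLike.exists_of_lt hnc
    have hgS : (g : G) ∈ (T ⊔ pOf U : Subgroup G) := g.2
    rw [← SetLike.mem_coe, coe_mul_of_left_le_normalizer_right T (pOf U)
      (hTU.trans (normalizer_le_normalizer_pOf U))] at hgS
    obtain ⟨t, ht, e, he, hte⟩ := hgS
    have heS : e ∈ S := mem_sup_right he
    have heN : (⟨e, heS⟩ : ↥S) ∈ normalizer ((T.subgroupOf S : Subgroup ↥S) : Set ↥S) := by
      have : (⟨e, heS⟩ : ↥S) = (⟨t, mem_sup_left ht⟩ : ↥S)⁻¹ * g := by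
        apply Subtype.ext
        show e = t⁻¹ * g
        rw [← hte]; group
      rw [this]
      exact mul_mem (inv_mem (le_normalizer (show (⟨t, mem_sup_left ht⟩ : ↥S) ∈ T.subgroupOf S from ht))) hgN
    have hemem : ∀ s ∈ T, e⁻¹ * s * e ∈ T := fun s hs => by
      have := (mem_normalizer_iff.1 (inv_mem heN) ⟨s, mem_sup_left hs⟩).1
        (show (⟨s, mem_sup_left hs⟩ : ↥S) ∈ T.subgroupOf S from hs)
      rw [inv_inv] at this
      exact this
    have heT : e ∉ T := fun h => hgT (show (g : G) ∈ T by rw [← hte]; exact mul_mem ht h)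
    have heM : e ∉ M := fun h => heT (mem_sup_right (mem_inf.2 ⟨he, h⟩))
    have hne : cj e V ≠ V := fun h => heM (mem_normalizer_of_cj_eq h)
    refine ⟨e, pOf_le_normalizer U he, hne, ?_⟩
    have hXc : ∀ x0 ∈ cj e V, ∀ s ∈ T, x0 * s = s * x0 := by
      rintro _ ⟨v, hv, rfl⟩ s hs
      show e * v * e⁻¹ * s = s * (e * v * e⁻¹)
      have h := mem_centralizer_iff.1 (hTV (hemem s hs)) v hv
      calc e * v * e⁻¹ * s = e * (v * (e⁻¹ * s * e)) * e⁻¹ := by group
        _ = e * (e⁻¹ * s * e * v) * e⁻¹ := by rw [h]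
        _ = s * (e * v * e⁻¹) := by group
    have hRT : ∀ r ∈ pOf V, (∀ u ∈ U, r * u = u * r) → r ∈ T := fun r hr hru =>
      mem_sup_left (mem_inf.2 ⟨hr, mem_centralizer_iff.2 fun u hu => (hru u hu).symm⟩)
    have hXV : ∀ x0 ∈ cj e V, ∀ v ∈ V, x0 * v = v * x0 := fun x0 hx0 v hv =>
      hXc x0 hx0 v (hRT v (le_pOf hV hv) fun u hu => hVUc v hv u hu)
    have hXU : ∀ x0 ∈ cj e V, ∀ u ∈ U, x0 * u = u * x0 := by
      rintro _ ⟨v, hv, rfl⟩ u hu
      show e * v * e⁻¹ * u = u * (e * v * e⁻¹)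
      have h := hPUc e he u hu
      have h' : e⁻¹ * u = u * e⁻¹ := ((show Commute e u from h).inv_left).eq
      calc e * v * e⁻¹ * u = e * (v * u) * e⁻¹ := by rw [mul_assoc (e * v), h']; group
        _ = e * u * v * e⁻¹ := by rw [hVUc v hv u hu]; group
        _ = u * (e * v * e⁻¹) := by rw [h]; group
    have hXM : ∀ x0 ∈ cj e V, x0 ∈ M := fun x0 hx0 => centralizer_le_normalizer _
      (mem_centralizer_iff.2 fun v hv => (hXV x0 hx0 v hv).symm)
    intro x0 hx0
    have hsq := sq_eq_one hV hx0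
    have hinv : x0⁻¹ = x0 := inv_eq_of_mul_eq_one_right hsq
    have hx0P : x0 ∈ pOf V := by
      refine mem_pOf_of_stab hV (hXM x0 hx0)
        (mem_centralizer_iff.2 fun v hv => (hXV x0 hx0 v hv).symm) fun p hp => ?_
      set u := ⁅x0, p⁆ with hu
      have huP : u ∈ pOf V := by
        rw [hu, commutatorElement_def]
        exact mul_mem (conj_mem_pOf (hXM x0 hx0) hp) (inv_mem hp)
      have hu' : u ∈ V ⊔ U := mem_sup_of_centralizes hV hU huP fun r hr hru => by
        have h1 : p⁻¹ * r * p ∈ pOf V := mul_mem (mul_mem (inv_mem hp) hr) hp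
        have h2 : ∀ w ∈ U, p⁻¹ * r * p * w = w * (p⁻¹ * r * p) := by
          intro w hw
          rw [show p⁻¹ * r * p = ⁅p⁻¹, r⁆ * r by simp only [commutatorElement_def]; group,
            mul_assoc, hru w hw, ← mul_assoc,
            ← pOf_commute (hU.le hw) (commutator_mem hV (inv_mem hp) hr), mul_assoc]
        have h3 := hXc x0 hx0 _ (hRT _ h1 h2)
        have h4 := hXc x0 hx0 _ (hRT _ hr hru)
        calc u * r = x0 * p * (x0⁻¹ * (p⁻¹ * r * p) * x0) * x0⁻¹ * p⁻¹ := by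
              rw [hu, commutatorElement_def]; group
          _ = x0 * p * (p⁻¹ * r * p) * x0⁻¹ * p⁻¹ := by
              rw [mul_assoc x0⁻¹, ← h3, inv_mul_cancel_left]
          _ = x0 * r * (p * x0⁻¹ * p⁻¹) := by group
          _ = r * u := by rw [h4, hu, commutatorElement_def]; group
      obtain ⟨v, hv, w, hw, hvw⟩ := mem_sup_member hV hU hu'
      have hu2 : u * u = 1 := by
        rw [hvw, show v * w * (v * w) = v * (w * v) * w by group,
          pOf_commute (hU.le hw) hv,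
          show v * (v * w) * w = v * v * (w * w) by group, sq_eq_one' hV hv, hU.sq hV hw, mul_one]
      have hp2 : x0 * (p * p) * x0⁻¹ = p * p :=
        mul_inv_eq_of_eq_mul (hXV x0 hx0 _ ((pOf_special hV).1 p hp))
      have hup : u * p = p * u := by
        have e1 : x0 * (p * p) * x0⁻¹ = u * p * (u * p) := by
          rw [hu, commutatorElement_def]; group
        rw [hp2] at e1
        calc u * p = u * p * (u * p) * p⁻¹ * u⁻¹ := by group
          _ = p * p * p⁻¹ * u := by rw [← e1, inv_eq_of_mul_eq_one_right hu2]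
          _ = p * u := by group
      by_cases hw1 : w = 1
      · rw [hvw, hw1, mul_one]; exact hv
      have hwp : p * w = w * p := by
        rw [hvw, mul_assoc, ← mul_assoc p v w, pOf_commute hp hv, mul_assoc] at hup
        exact (mul_left_cancel hup).symm
      have hpT : p ∈ T := hRT p hp (hU.commute_all hV hp hw hw1 hwp)
      rw [hu, commutatorElement_eq_one_iff_mul_comm.2 (hXc x0 hx0 p hpT)]
      exact one_mem V
    exact mem_sup_of_centralizes hV hU hx0P fun r hr hru => hXc x0 hx0 r (hRT r hr hru)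

/-- Some element interchanges `V` and `U`. -/
theorem exists_swap (hV : IsConfig V) {U : Subgroup G} (hU : IsMember V U) :
    ∃ c : G, cj c V = U ∧ cj c U = V := by
  obtain ⟨e, heU, hne, hle⟩ := exists_mover hV hU
  obtain ⟨p, hp, hep⟩ := (eq_or_exists_cj hV hU hle).resolve_left hne
  set h₀ := p⁻¹ * e with hh₀
  have h1 : cj h₀ V = U := by rw [hh₀, ← cj_cj, hep, cj_inv_cj]
  have hU1 : cj h₀ U = cj p⁻¹ U := by rw [hh₀, ← cj_cj, cj_eq_of_mem_normalizer heU]
  have hW : cj h₀ (V ⊔ U) ≤ V ⊔ U := by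
    rw [cj, Subgroup.map_sup]
    exact sup_le (h1.le.trans le_sup_right) (hU1.le.trans (cj_member_le hV hU (inv_mem hp)))
  have hWeq : cj h₀ (V ⊔ U) = V ⊔ U := eq_of_le_of_card_ge hW (card_cj _ _).ge
  set X := cj h₀⁻¹ V with hX
  have hXW : X ≤ V ⊔ U := by
    rw [hX, ← cj_inv_cj h₀ (V ⊔ U), hWeq]
    exact cj_mono le_sup_left
  rcases eq_or_exists_cj hV hU hXW with hXV | ⟨p₁, hp₁, hXp⟩
  · exfalso
    refine hU.ne ?_
    rw [← h1]
    have := congrArg (cj h₀) hXV
    rwa [← hX, hX, cj_cj_inv, eq_comm] at this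
  refine ⟨h₀ * p₁, ?_, ?_⟩
  · rw [← cj_cj, cj_eq_of_mem_normalizer (pOf_le_normalizer V hp₁), h1]
  · rw [← cj_cj, ← hXp]
    exact cj_cj_inv h₀ V

theorem member_symm (hV : IsConfig V) {U : Subgroup G} (hU : IsMember V U) : V ≤ pOf U := by
  obtain ⟨c, hcV, hcU⟩ := exists_swap hV hU
  rw [← hcV, ← cj_pOf]
  conv_lhs => rw [← hcU]
  exact cj_mono hU.le

/-- Commutators of `P_U` with `V U` lie in `U`. -/
theorem commutator_mem_right (hV : IsConfig V) {U : Subgroup G} (hU : IsMember V U) {e v : G}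
    (he : e ∈ pOf U) (hv : v ∈ V) : ⁅e, v⁆ ∈ U := by
  have hv' := member_symm hV hU hv
  obtain ⟨c, hcV, -⟩ := exists_swap hV hU
  rw [← hcV, ← cj_pOf] at he hv'
  obtain ⟨e', he', rfl⟩ := he
  obtain ⟨v', hv'', rfl⟩ := hv'
  rw [← map_commutatorElement, ← hcV]
  exact ⟨_, commutator_mem hV he' hv'', rfl⟩

/-- Every member of `V U` other than `U` is a `P_U`-conjugate of `V`. -/
theorem eq_or_exists_cj_right (hV : IsConfig V) {U : Subgroup G} (hU : IsMember V U) {x : G}
    (hle : cj x V ≤ V ⊔ U) : cj x V = U ∨ ∃ e ∈ pOf U, cj x V = cj e V := by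
  obtain ⟨c, hcV, hcU⟩ := exists_swap hV hU
  have hW : cj c⁻¹ (V ⊔ U) = V ⊔ U := by
    rw [cj, Subgroup.map_sup, sup_comm]
    refine congrArg₂ (· ⊔ ·) ?_ ?_
    · show cj c⁻¹ U = V
      rw [← hcV, cj_inv_cj]
    · show cj c⁻¹ V = U
      conv_lhs => rw [← hcU]
      rw [cj_inv_cj]
  have hle' : cj (c⁻¹ * x) V ≤ V ⊔ U := by
    rw [← cj_cj, ← hW]; exact cj_mono hle
  rcases eq_or_exists_cj hV hU hle' with h | ⟨p, hp, h⟩
  · left
    have := congrArg (cj c) h
    rwa [cj_cj, mul_inv_cancel_left, hcV] at this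
  · refine Or.inr ⟨c * p * c⁻¹, ?_, ?_⟩
    · rw [← hcV, ← cj_pOf]; exact conj_mem_cj hp
    · have := congrArg (cj c) h
      rw [cj_cj, mul_inv_cancel_left] at this
      rw [this, ← cj_cj (c * p) c⁻¹, ← cj_cj c p]
      congr 2
      conv_rhs => rw [← hcU]
      rw [cj_inv_cj]

/-- `N(V)` is transitive on the nontrivial elements of `V`. -/
theorem exists_conj_eq (hV : IsConfig V) {U : Subgroup G} (hU : IsMember V U) {v v' : G}
    (hv : v ∈ V) (hv1 : v ≠ 1) (hv' : v' ∈ V) (hv'1 : v' ≠ 1) :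
    ∃ m ∈ normalizer (V : Set G), m * v * m⁻¹ = v' := by
  obtain ⟨Y, hpair⟩ := exists_pair hV hU
  obtain ⟨w, hw, hw1⟩ := hU.exists_ne_one
  -- the swaps
  have swap : ∀ a ∈ V, a ≠ 1 → ∃ s : G, s * a * s⁻¹ = w ∧ s * w * s⁻¹ = a := by
    intro a ha ha1
    obtain ⟨y, hy, hya⟩ := hpair.exists_eq hV hw hw1 ha
    have hyP := hpair.right.le hy
    have hyw : y * w * y⁻¹ = a * w := by
      rw [← hya, commutator_symm hV (hU.le hw) hyP]; simp only [commutatorElement_def]; group
    obtain ⟨x, hx⟩ := hU.conj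
    have hle : cj (y * x) V ≤ V ⊔ U := by rw [← cj_cj, ← hx]; exact cj_member_le hV hU hyP
    have haw : a * w ∈ cj (y * x) V := by rw [← cj_cj, ← hx, ← hyw]; exact conj_mem_cj hw
    rcases eq_or_exists_cj_right hV hU hle with h | ⟨e, he, h⟩
    · exfalso
      rw [h] at haw
      refine ha1 (hU.disjoint hV ?_ ha)
      have := mul_mem haw (inv_mem hw)
      rwa [mul_inv_cancel_right] at this
    · rw [h] at haw
      obtain ⟨v₀, hv₀, hev⟩ := haw
      change e * v₀ * e⁻¹ = a * w at hev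
      have hcom := commutator_mem_right hV hU he hv₀
      have e1 : e * v₀ * e⁻¹ = ⁅e, v₀⁆ * v₀ := by simp only [commutatorElement_def]; group
      rw [e1, ← pOf_commute (hU.le hw) ha] at hev
      have hv₀a : v₀ = a := by
        have hmemU : a * v₀⁻¹ ∈ U := by
          rw [show a * v₀⁻¹ = w⁻¹ * (w * a * v₀⁻¹) by group, ← hev, mul_inv_cancel_right]
          exact mul_mem (inv_mem hw) hcom
        exact (mul_inv_eq_one.1 (hU.disjoint hV hmemU (mul_mem ha (inv_mem hv₀)))).symm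
      rw [hv₀a] at e1 hev hcom hv₀
      have hec : ⁅e, a⁆ = w := mul_right_cancel hev
      have hew : e * w * e⁻¹ = w := mul_inv_eq_of_eq_mul (pOf_commute he hw)
      have hya' : y * a * y⁻¹ = a := mul_inv_eq_of_eq_mul (pOf_commute hyP ha)
      have hea : e * a * e⁻¹ = w * a := by rw [e1, hec]
      refine ⟨y * e * y, ?_, ?_⟩
      · calc y * e * y * a * (y * e * y)⁻¹ = y * (e * (y * a * y⁻¹) * e⁻¹) * y⁻¹ := by group
          _ = y * (w * a) * y⁻¹ := by rw [hya', hea]
          _ = (y * w * y⁻¹) * (y * a * y⁻¹) := by group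
          _ = a * (w * a) := by rw [hyw, hya']; group
          _ = a * a * w := by rw [pOf_commute (hU.le hw) ha]; group
          _ = w := by rw [sq_eq_one' hV ha, one_mul]
      · calc y * e * y * w * (y * e * y)⁻¹ = y * (e * (y * w * y⁻¹) * e⁻¹) * y⁻¹ := by group
          _ = y * ((e * a * e⁻¹) * (e * w * e⁻¹)) * y⁻¹ := by rw [hyw]; group
          _ = y * (a * (w * w)) * y⁻¹ := by
              rw [hea, hew, pOf_commute (hU.le hw) ha]; group
          _ = a := by rw [hU.sq hV hw, mul_one, hya']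
  obtain ⟨s, hs, -⟩ := swap v hv hv1
  obtain ⟨t, -, ht⟩ := swap v' hv' hv'1
  have hconj : t * s * v * (t * s)⁻¹ = v' := by
    calc t * s * v * (t * s)⁻¹ = t * (s * v * s⁻¹) * t⁻¹ := by group
      _ = v' := by rw [hs, ht]
  refine ⟨t * s, mem_normalizer_of_cj_eq (by_contra fun hne => hv'1 ?_), hconj⟩
  exact eq_one_of_mem_self hV hne (hconj ▸ conj_mem_cj hv) hv'

/-- `O_2(M)` centralizes `V`. -/
theorem qOf_le_pOf (hV : IsConfig V) {U : Subgroup G} (hU : IsMember V U) : qOf V ≤ pOf V := by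
  have : Fact (Nat.Prime 2) := ⟨Nat.prime_two⟩
  refine le_inf le_rfl fun q hq => mem_centralizer_iff.2 fun v hv => ?_
  by_cases hv1 : v = 1
  · simp [hv1]
  have hne : V ≠ ⊥ := fun h => hv1 (mem_bot.1 (h ▸ (hv : v ∈ V)))
  obtain ⟨z, hz, hz1, hzc⟩ := CfsgLib.CharPLocal.exists_ne_one_central_of_normal
    (isPGroup_qOf V) (le_qOf hV) (qOf_le V) hne
  obtain ⟨m, hm, hmz⟩ := exists_conj_eq hV hU hz hz1 hv hv1
  have hq' : m⁻¹ * q * m ∈ qOf V := by
    simpa [mul_assoc] using
      (mem_normalizer_iff.1 (inv_mem (normalizer_le_normalizer_qOf V hm)) q).1 hq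
  have h := hzc _ hq'
  rw [← hmz]
  calc m * z * m⁻¹ * q = m * (z * (m⁻¹ * q * m)) * m⁻¹ := by group
    _ = m * (m⁻¹ * q * m * z) * m⁻¹ := by rw [h]
    _ = q * (m * z * m⁻¹) := by group

/-- The conjugates in `V U` partition it. -/
theorem exists_unique_member (hV : IsConfig V) {U : Subgroup G} (hU : IsMember V U) {a : G}
    (ha : a ∈ V ⊔ U) (ha1 : a ≠ 1) :
    ∃! X : Subgroup G, (∃ x : G, X = cj x V) ∧ X ≤ V ⊔ U ∧ a ∈ X := by
  obtain ⟨x, hx⟩ := hU.conj
  have huniq : ∀ X Y : Subgroup G, (∃ y, X = cj y V) → (∃ y, Y = cj y V) → a ∈ X → a ∈ Y → X = Y := by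
    rintro X Y ⟨y, rfl⟩ ⟨y', rfl⟩ h1 h2
    exact by_contra fun hne => ha1 (eq_one_of_mem hV hne h1 h2)
  by_cases haV : a ∈ V
  · refine ⟨V, ⟨⟨1, (cj_one V).symm⟩, le_sup_left, haV⟩, fun X hX => ?_⟩
    exact huniq X V hX.1 ⟨1, (cj_one V).symm⟩ hX.2.2 haV
  · obtain ⟨p, hp, hap⟩ := exists_member_through hV hU ha haV
    have hc : ∃ y, cj p U = cj y V := ⟨p * x, by rw [hx, cj_cj]⟩
    exact ⟨cj p U, ⟨hc, cj_member_le hV hU hp, hap⟩, fun X hX => huniq X _ hX.1 hc hX.2.2 hap⟩

/-- `⟨P, P_U⟩` normalizes `V U`. -/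
theorem sup_le_normalizer (hV : IsConfig V) {U : Subgroup G} (hU : IsMember V U) :
    pOf V ⊔ pOf U ≤ normalizer ((V ⊔ U : Subgroup G) : Set G) := by
  refine sup_le (fun p hp => mem_normalizer_of_cj_eq (eq_of_le_of_card_ge ?_ (card_cj _ _).ge))
    fun e he => mem_normalizer_of_cj_eq (eq_of_le_of_card_ge ?_ (card_cj _ _).ge)
  · rw [cj, Subgroup.map_sup]
    exact sup_le ((cj_eq_of_mem_normalizer (pOf_le_normalizer V hp)).le.trans le_sup_left)
      (cj_member_le hV hU hp)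
  · rw [cj, Subgroup.map_sup]
    refine sup_le ?_ ((cj_eq_of_mem_normalizer (pOf_le_normalizer U he)).le.trans le_sup_right)
    rintro _ ⟨v, hv, rfl⟩
    show e * v * e⁻¹ ∈ V ⊔ U
    rw [show e * v * e⁻¹ = ⁅e, v⁆ * v by simp only [commutatorElement_def]; group]
    exact mul_mem (mem_sup_right (commutator_mem_right hV hU he hv)) (mem_sup_left hv)

end CfsgLib.TISpread
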